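import Cfsg.Agent.Lib.Spec.SuzukiChar.Values
import Cfsg.Agent.Lib.Char.Formulas

/-!
# Products of two conjugates in a Suzuki group

For an element `x` of order greater than two the class sum attached to `x`, `x` and any
non-identity element does not vanish.
-/

set_option autoImplicit false
set_option linter.unusedSectionVars false

namespace Cfsg.Lib.SuzChar

open Cfsg Cfsg.Lib.Char Cfsg.Lib.Linear.Suz
open scoped ComplexConjugate

variable {F : Type*} [Field F] [Fintype F] [DecidableEq F] {m : ℕ} (h : Params F m)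
include h

variable [Fintype ↥(Cfsg.Sz F m)]

/-- The character sum counting products of two conjugates of `x` equal to `g`. -/
noncomputable def prodSum (_h : Params F m) (x g : ↥(Cfsg.Sz F m)) : ℂ :=
  ∑ χ : IrrCharacter ↥(Cfsg.Sz F m), (χ : ↥(Cfsg.Sz F m) → ℂ) x * (χ : ↥(Cfsg.Sz F m) → ℂ) x *
    conj ((χ : ↥(Cfsg.Sz F m) → ℂ) g) / (χ : ↥(Cfsg.Sz F m) → ℂ) 1

theorem prodSum_conj (x g σ τ : ↥(Cfsg.Sz F m)) :
    prodSum h (σ * x * σ⁻¹) (τ * g * τ⁻¹) = prodSum h x g :=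
  Finset.sum_congr rfl fun χ _ => by rw [χ.2.isClassFunction, χ.2.isClassFunction]

variable (D : Table h)
include D

theorem prodSum_split (x g : ↥(Cfsg.Sz F m)) :
    prodSum h x g = 1 +
      (stIrr h : ↥(Cfsg.Sz F m) → ℂ) x ^ 2 * conj ((stIrr h : ↥(Cfsg.Sz F m) → ℂ) g) /
        (Fintype.card F : ℂ) ^ 2 +
      (∑ χ ∈ pFam h, (χ : ↥(Cfsg.Sz F m) → ℂ) x ^ 2 * conj ((χ : ↥(Cfsg.Sz F m) → ℂ) g)) /
        ((Fintype.card F : ℂ) ^ 2 + 1) +
      ((∑ χ ∈ family h D.hT D.hn,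
          (χ : ↥(Cfsg.Sz F m) → ℂ) x ^ 2 * conj ((χ : ↥(Cfsg.Sz F m) → ℂ) g)) /
          (((Fintype.card F : ℂ) - 1) * (Nat.card ↥D.T' : ℂ)) +
        (∑ χ ∈ family h D.hT' D.hn',
          (χ : ↥(Cfsg.Sz F m) → ℂ) x ^ 2 * conj ((χ : ↥(Cfsg.Sz F m) → ℂ) g)) /
          (((Fintype.card F : ℂ) - 1) * (Nat.card ↥D.T : ℂ))) +
      ((D.u : ↥(Cfsg.Sz F m) → ℂ) x ^ 2 * conj ((D.u : ↥(Cfsg.Sz F m) → ℂ) g) +
        (D.v : ↥(Cfsg.Sz F m) → ℂ) x ^ 2 * conj ((D.v : ↥(Cfsg.Sz F m) → ℂ) g)) /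
        ((2 : ℂ) ^ m * ((Fintype.card F : ℂ) - 1)) := by
  have hc : ((2 ^ m * (Fintype.card F - 1) : ℕ) : ℂ) =
      (2 : ℂ) ^ m * ((Fintype.card F : ℂ) - 1) := by
    rw [Nat.cast_mul, Nat.cast_sub Fintype.card_pos, Nat.cast_one, Nat.cast_pow]
    rfl
  rw [prodSum, D.split, oneIrr_apply, oneIrr_apply, oneIrr_apply, stIrr_one, D.deg_u, D.deg_v, hc,
    Finset.sum_div, Finset.sum_div, Finset.sum_div,
    Finset.sum_congr rfl (fun χ hχ => by rw [pFam_one h hχ, ← sq]),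
    Finset.sum_congr (s₁ := family h D.hT D.hn) rfl (fun χ hχ => by rw [fam_one h D hχ, ← sq]),
    Finset.sum_congr (s₁ := family h D.hT' D.hn') rfl
      (fun χ hχ => by rw [fam_one h (Table.symm h D) hχ, ← sq])]
  simp only [map_one, Table.symm]
  ring

/-- The numerical parameters. -/
theorem params : ∃ p s : ℝ, 2 ≤ p ∧ (s = 2 * p ∨ s = -(2 * p)) ∧ (2 : ℂ) ^ m = (p : ℂ) ∧
    (Fintype.card F : ℝ) = 2 * p ^ 2 ∧ (Nat.card ↥D.T : ℝ) = 2 * p ^ 2 + 1 + s ∧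
    (Nat.card ↥D.T' : ℝ) = 2 * p ^ 2 + 1 - s := by
  have hq : (Fintype.card F : ℝ) = 2 * ((2 : ℝ) ^ m) ^ 2 := by
    rw [h.card]; push_cast; ring
  have ha : (Nat.card ↥D.T : ℝ) + Nat.card ↥D.T' = 2 * (Fintype.card F : ℝ) + 2 := by
    exact_mod_cast D.add_eq
  refine ⟨(2 : ℝ) ^ m, (Nat.card ↥D.T : ℝ) - 2 * ((2 : ℝ) ^ m) ^ 2 - 1, ?_, ?_, by push_cast; rfl,
    hq, by ring, by linarith⟩
  · calc (2 : ℝ) = 2 ^ 1 := (pow_one _).symm
      _ ≤ 2 ^ m := pow_le_pow_right₀ one_le_two h.pos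
  · have hm : (Nat.card ↥D.T : ℝ) * Nat.card ↥D.T' = (Fintype.card F : ℝ) ^ 2 + 1 := by
      exact_mod_cast D.mul_eq
    have e : ((Nat.card ↥D.T : ℝ) - 2 * ((2 : ℝ) ^ m) ^ 2 - 1 - 2 * 2 ^ m) *
        ((Nat.card ↥D.T : ℝ) - 2 * ((2 : ℝ) ^ m) ^ 2 - 1 + 2 * 2 ^ m) = 0 := by
      linear_combination (Nat.card ↥D.T : ℝ) * ha - hm +
        (2 * (Nat.card ↥D.T : ℝ) - (Fintype.card F : ℝ) - 2 * ((2 : ℝ) ^ m) ^ 2) * hq
    rcases mul_eq_zero.mp e with e | e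
    · exact Or.inl (by linarith)
    · exact Or.inr (by linarith)

omit D in
theorem ne_zero_of_real {z : ℂ} {E : ℝ} (e : z = (E : ℂ)) (hE : 0 < E) : z ≠ 0 := by
  rw [e]; exact Complex.ofReal_ne_zero.mpr hE.ne'

theorem torus_other {a : ↥D.T} (ha : a ≠ 1) {b : ↥D.T'} (hb : b ≠ 1) :
    prodSum h a b ≠ 0 := by
  obtain ⟨p, s, hp, hs, h2, hq, ht, ht'⟩ := params h D
  have hfa := D.hT.fpf a a.2 fun e => ha (Subtype.ext e)
  have hfb := D.hT'.fpf b b.2 fun e => hb (Subtype.ext e)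
  have e := prodSum_split h D (a : ↥(Cfsg.Sz F m)) b
  rw [stIrr_fpf h hfa, stIrr_fpf h hfb, (small_sq h D ha).1, (small_sq h D ha).2,
    Finset.sum_eq_zero (s := pFam h) (fun χ hχ => by rw [pFam_fpf h hχ hfa]; simp),
    Finset.sum_eq_zero (s := family h D.hT D.hn)
      (fun χ hχ => by rw [fam_other h (Table.symm h D) hχ (a := b) hb]; simp),
    Finset.sum_eq_zero (s := family h D.hT' D.hn')
      (fun χ hχ => by rw [fam_other h D hχ ha]; simp), one_mul, one_mul, ← map_add] at e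
  have hsm : (2 : ℂ) ^ m * ((D.u : ↥(Cfsg.Sz F m) → ℂ) b + (D.v : ↥(Cfsg.Sz F m) → ℂ) b) =
      (Fintype.card F : ℂ) + 1 - (Nat.card ↥D.T : ℂ) := small_torus h (Table.symm h D) hb
  refine ne_zero_of_real h (E := 1 - 1 / (2 * p ^ 2) ^ 2 + (-s / p) / (p * (2 * p ^ 2 - 1))) ?_ ?_
  · rw [e]
    have hqC : (Fintype.card F : ℂ) = ((2 * p ^ 2 : ℝ) : ℂ) := by rw [← hq]; simp
    have htC : (Nat.card ↥D.T : ℂ) = ((2 * p ^ 2 + 1 + s : ℝ) : ℂ) := by rw [← ht]; simp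
    have hpC : (p : ℂ) ≠ 0 := Complex.ofReal_ne_zero.mpr (by linarith)
    have hsum : (D.u : ↥(Cfsg.Sz F m) → ℂ) b + (D.v : ↥(Cfsg.Sz F m) → ℂ) b =
        ((-s / p : ℝ) : ℂ) := by
      rw [h2, hqC, htC] at hsm
      push_cast at hsm ⊢
      rw [eq_div_iff hpC]
      linear_combination hsm
    rw [hsum, hqC, h2, map_neg, map_one, Complex.conj_ofReal]
    push_cast
    ring
  · have hp' : (0 : ℝ) < p := by linarith
    have : (0 : ℝ) < 2 * p ^ 2 - 1 := by nlinarith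
    have b1 : 1 / (2 * p ^ 2) ^ 2 ≤ 1 / 4 := by
      rw [div_le_div_iff₀ (by positivity) (by norm_num)]; nlinarith [pow_le_pow_left₀ (by norm_num) hp 4]
    have b2 : -(1 / 2 : ℝ) ≤ (-s / p) / (p * (2 * p ^ 2 - 1)) := by
      rw [le_div_iff₀ (by positivity), le_div_iff₀ hp']
      rcases hs with rfl | rfl <;> nlinarith [mul_le_mul hp hp (by norm_num) hp'.le]
    linarith

theorem torus_dS {a : ↥D.T} (ha : a ≠ 1) {k : Fˣ} (hk : k ≠ 1) :
    prodSum h a (dS h k) ≠ 0 := by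
  obtain ⟨p, s, hp, hs, h2, hq, ht, ht'⟩ := params h D
  have hfa := D.hT.fpf a a.2 fun e => ha (Subtype.ext e)
  have e := prodSum_split h D (a : ↥(Cfsg.Sz F m)) (dS h k)
  rw [stIrr_fpf h hfa, stIrr_dS h hk, D.vanish_u k hk, D.vanish_v k hk,
    Finset.sum_eq_zero (s := pFam h) (fun χ hχ => by rw [pFam_fpf h hχ hfa]; simp),
    Finset.sum_eq_zero (s := family h D.hT D.hn)
      (fun χ hχ => by rw [fam_dS h D hχ hk]; simp),
    Finset.sum_eq_zero (s := family h D.hT' D.hn')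
      (fun χ hχ => by rw [fam_dS h (Table.symm h D) hχ hk]; simp)] at e
  refine ne_zero_of_real h (E := 1 + 1 / (Fintype.card F : ℝ) ^ 2) ?_ (by positivity)
  rw [e]
  simp

theorem family_sq_sum {a : ↥D.T} (ha : a ≠ 1) :
    ∑ χ ∈ family h D.hT D.hn, (χ : ↥(Cfsg.Sz F m) → ℂ) a ^ 2 = (Nat.card ↥D.T : ℂ) - 4 := by
  rw [← family_column h D.hT D.hn ha]
  refine Finset.sum_congr rfl fun χ hχ => ?_
  obtain ⟨r, hr⟩ := family_real h D.hT D.hn ha hχ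
  rw [hr, Complex.conj_ofReal, sq]

theorem torus_uS {a : ↥D.T} (ha : a ≠ 1) {b c : F} (hbc : uS h b c ≠ 1) :
    prodSum h a (uS h b c) ≠ 0 := by
  classical
  obtain ⟨p, s, hp, hs, h2, hq, ht, ht'⟩ := params h D
  have hfa := D.hT.fpf a a.2 fun e => ha (Subtype.ext e)
  have e := prodSum_split h D (a : ↥(Cfsg.Sz F m)) (uS h b c)
  rw [stIrr_fpf h hfa, stIrr_uS h hbc, (small_sq h D ha).1, (small_sq h D ha).2,
    Finset.sum_eq_zero (s := pFam h) (fun χ hχ => by rw [pFam_fpf h hχ hfa]; simp),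
    Finset.sum_congr (s₁ := family h D.hT D.hn) rfl (fun χ hχ => by rw [fam_uS h D hχ hbc]),
    ← Finset.sum_mul, family_sq_sum h D ha,
    Finset.sum_eq_zero (s := family h D.hT' D.hn')
      (fun χ hχ => by rw [fam_other h D hχ ha]; simp), one_mul, one_mul, ← map_add,
    small_uS h D hbc] at e
  have hqC : (Fintype.card F : ℂ) = ((2 * p ^ 2 : ℝ) : ℂ) := by rw [← hq]; simp
  have htC : (Nat.card ↥D.T : ℂ) = ((2 * p ^ 2 + 1 + s : ℝ) : ℂ) := by rw [← ht]; simp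
  have htC' : (Nat.card ↥D.T' : ℂ) = ((2 * p ^ 2 + 1 - s : ℝ) : ℂ) := by rw [← ht']; simp
  have hp' : (0 : ℝ) < p := by linarith
  have hq1 : (0 : ℝ) < 2 * p ^ 2 - 1 := by nlinarith
  have ht0 : (0 : ℝ) < 2 * p ^ 2 + 1 - s := by rcases hs with rfl | rfl <;> nlinarith
  rw [e]
  by_cases hb : b = 0
  · rw [if_pos hb, if_pos hb, invVal, hqC, htC, htC', h2]
    refine ne_zero_of_real h (E := 1 + (2 * p ^ 2 + 1 + s - 4) * (s - 1) /
      ((2 * p ^ 2 - 1) * (2 * p ^ 2 + 1 - s)) + (-2 * p) / (p * (2 * p ^ 2 - 1))) ?_ ?_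
    · simp only [map_neg, map_one, map_zero, map_mul, map_sub, Complex.conj_ofReal, map_ofNat]
      push_cast
      ring
    · have hd : 0 < (2 * p ^ 2 - 1) * (2 * p ^ 2 + 1 - s) := by positivity
      rw [show (-2 * p) / (p * (2 * p ^ 2 - 1)) = (-2 * (2 * p ^ 2 + 1 - s)) /
          ((2 * p ^ 2 - 1) * (2 * p ^ 2 + 1 - s)) by field_simp,
        add_assoc, ← add_div, ← sub_neg_eq_add, sub_pos, neg_div', div_lt_one hd]
      rcases hs with rfl | rfl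
      · nlinarith [mul_le_mul hp hp (by norm_num) hp'.le, pow_le_pow_left₀ (by norm_num) hp 3,
          pow_le_pow_left₀ (by norm_num) hp 4]
      · nlinarith [mul_le_mul hp hp (by norm_num) hp'.le, pow_le_pow_left₀ (by norm_num) hp 3,
          pow_le_pow_left₀ (by norm_num) hp 4, mul_nonneg (sub_nonneg.mpr hp) (pow_nonneg hp'.le 3)]
  · rw [if_neg hb, if_neg hb, hqC, htC, htC', h2]
    refine ne_zero_of_real h (E := 1 - (2 * p ^ 2 + 1 + s - 4) /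
      ((2 * p ^ 2 - 1) * (2 * p ^ 2 + 1 - s))) ?_ ?_
    · simp only [map_neg, map_one, map_zero]
      push_cast
      ring
    · rw [sub_pos, div_lt_one (by positivity)]
      rcases hs with rfl | rfl <;>
        nlinarith [mul_le_mul hp hp (by norm_num) hp'.le, pow_le_pow_left₀ (by norm_num) hp 3,
          mul_nonneg (sub_nonneg.mpr hp) (pow_nonneg hp'.le 3)]

theorem torus_same {a b : ↥D.T} (ha : a ≠ 1) (hb : b ≠ 1) : prodSum h a b ≠ 0 := by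
  classical
  obtain ⟨p, s, hp, hs, h2, hq, ht, ht'⟩ := params h D
  have hfa := D.hT.fpf a a.2 fun e => ha (Subtype.ext e)
  have hfb := D.hT.fpf b b.2 fun e => hb (Subtype.ext e)
  choose! r hr using fun χ (hχ : χ ∈ family h D.hT D.hn) => family_real h D.hT D.hn ha hχ
  choose! r' hr' using fun χ (hχ : χ ∈ family h D.hT D.hn) => family_real h D.hT D.hn hb hχ
  have hqC : (Fintype.card F : ℂ) = ((2 * p ^ 2 : ℝ) : ℂ) := by rw [← hq]; simp
  have htC : (Nat.card ↥D.T : ℂ) = ((2 * p ^ 2 + 1 + s : ℝ) : ℂ) := by rw [← ht]; simp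
  have htC' : (Nat.card ↥D.T' : ℂ) = ((2 * p ^ 2 + 1 - s : ℝ) : ℂ) := by rw [← ht']; simp
  have hsq : ∀ {c : ↥D.T} (_ : c ≠ 1) (f : IrrCharacter ↥(Cfsg.Sz F m) → ℝ),
      (∀ χ ∈ family h D.hT D.hn, (χ : ↥(Cfsg.Sz F m) → ℂ) c = (f χ : ℂ)) →
      ∑ χ ∈ family h D.hT D.hn, f χ ^ 2 = 2 * p ^ 2 + 1 + s - 4 := by
    intro c hc f hf
    have e := family_sq_sum h D hc
    rw [Finset.sum_congr rfl (fun χ hχ => by rw [hf χ hχ]), htC] at e
    exact_mod_cast e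
  obtain ⟨S, hS⟩ : ∃ S : ℝ, S = ∑ χ ∈ family h D.hT D.hn, r χ ^ 2 * r' χ := ⟨_, rfl⟩
  have hb1 : ∀ χ ∈ family h D.hT D.hn, -((2 * p ^ 2 + 6 + s) / 6) ≤ r' χ := by
    intro χ hχ
    have := (Finset.single_le_sum (f := fun χ => r' χ ^ 2) (fun _ _ => sq_nonneg _) hχ).trans
      (hsq hb r' hr').le
    nlinarith [sq_nonneg (r' χ + 3)]
  have hS1 : -((2 * p ^ 2 + 6 + s) / 6) * (2 * p ^ 2 + 1 + s - 4) ≤ S := by
    rw [← hsq ha r hr, hS, Finset.mul_sum]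
    exact Finset.sum_le_sum fun χ hχ => by nlinarith [hb1 χ hχ, sq_nonneg (r χ)]
  have e := prodSum_split h D (a : ↥(Cfsg.Sz F m)) b
  rw [stIrr_fpf h hfa, stIrr_fpf h hfb, (small_sq h D ha).1, (small_sq h D ha).2,
    Finset.sum_eq_zero (s := pFam h) (fun χ hχ => by rw [pFam_fpf h hχ hfa]; simp),
    Finset.sum_congr (s₁ := family h D.hT D.hn) rfl
      (fun χ hχ => by rw [hr χ hχ, hr' χ hχ, Complex.conj_ofReal]),
    Finset.sum_eq_zero (s := family h D.hT' D.hn')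
      (fun χ hχ => by rw [fam_other h D hχ ha]; simp), one_mul, one_mul, ← map_add] at e
  have hsm := small_torus h D hb
  refine ne_zero_of_real h (E := 1 - 1 / (2 * p ^ 2) ^ 2 +
    S / ((2 * p ^ 2 - 1) * (2 * p ^ 2 + 1 - s)) + (s / p) / (p * (2 * p ^ 2 - 1))) ?_ ?_
  · rw [e]
    have hpC : (p : ℂ) ≠ 0 := Complex.ofReal_ne_zero.mpr (by linarith)
    have hsum : (D.u : ↥(Cfsg.Sz F m) → ℂ) b + (D.v : ↥(Cfsg.Sz F m) → ℂ) b =
        ((s / p : ℝ) : ℂ) := by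
      rw [h2, hqC, htC'] at hsm
      push_cast at hsm ⊢
      rw [eq_div_iff hpC]
      linear_combination hsm
    rw [hsum, hqC, h2, htC', map_neg, map_one, Complex.conj_ofReal, hS]
    push_cast
    ring
  · have hp' : (0 : ℝ) < p := by linarith
    have hq1 : (0 : ℝ) < 2 * p ^ 2 - 1 := by nlinarith
    have ht0 : (0 : ℝ) < 2 * p ^ 2 + 1 - s := by rcases hs with rfl | rfl <;> nlinarith
    have b1 : 1 / (2 * p ^ 2) ^ 2 ≤ 1 / 64 := by
      rw [div_le_div_iff₀ (by positivity) (by norm_num)]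
      nlinarith [pow_le_pow_left₀ (by norm_num) hp 4]
    have b2 : -(1 / 7 : ℝ) ≤ (s / p) / (p * (2 * p ^ 2 - 1)) := by
      rw [le_div_iff₀ (by positivity), le_div_iff₀ hp']
      rcases hs with rfl | rfl <;> nlinarith [mul_le_mul hp hp (by norm_num) hp'.le]
    have b3 : -(4 / 5 : ℝ) ≤ S / ((2 * p ^ 2 - 1) * (2 * p ^ 2 + 1 - s)) := by
      rw [le_div_iff₀ (by positivity)]
      refine le_trans ?_ hS1
      obtain ⟨d, hd, rfl⟩ : ∃ d, 0 ≤ d ∧ p = 2 + d := ⟨p - 2, by linarith, by ring⟩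
      rcases hs with rfl | rfl <;>
        nlinarith [pow_nonneg hd 2, pow_nonneg hd 3, pow_nonneg hd 4]
    linarith

theorem dS_fpf {k : Fˣ} (hk : k ≠ 1) {g : ↥(Cfsg.Sz F m)} (hg : Fpf h g) :
    prodSum h (dS h k) g ≠ 0 := by
  have e := prodSum_split h D (dS h k) g
  rw [stIrr_fpf h hg, stIrr_dS h hk, D.vanish_u k hk, D.vanish_v k hk,
    Finset.sum_eq_zero (s := pFam h) (fun χ hχ => by rw [pFam_fpf h hχ hg]; simp),
    Finset.sum_eq_zero (s := family h D.hT D.hn)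
      (fun χ hχ => by rw [fam_dS h D hχ hk]; simp),
    Finset.sum_eq_zero (s := family h D.hT' D.hn')
      (fun χ hχ => by rw [fam_dS h (Table.symm h D) hχ hk]; simp)] at e
  refine ne_zero_of_real h (E := 1 - 1 / (Fintype.card F : ℝ) ^ 2) ?_ ?_
  · rw [e]; simp; ring
  · have h8 : (8 : ℝ) ≤ Fintype.card F := by exact_mod_cast card_F_ge h
    rw [sub_pos, div_lt_one (by positivity)]
    nlinarith

theorem dS_uS {k : Fˣ} (hk : k ≠ 1) {b c : F} (hbc : uS h b c ≠ 1) :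
    prodSum h (dS h k) (uS h b c) ≠ 0 := by
  have e := prodSum_split h D (dS h k) (uS h b c)
  have eP : ∑ χ ∈ pFam h, (χ : ↥(Cfsg.Sz F m) → ℂ) (dS h k) ^ 2 *
      conj ((χ : ↥(Cfsg.Sz F m) → ℂ) (uS h b c)) = (Fintype.card F : ℂ) - 3 := by
    rw [← pFam_column_dS h hk]
    refine Finset.sum_congr rfl fun χ hχ => ?_
    obtain ⟨r, hr, -⟩ := pFam_dS_real h hχ hk
    rw [pFam_uS h hχ hbc, hr, Complex.conj_ofReal, map_one, mul_one, sq]
  rw [stIrr_uS h hbc, stIrr_dS h hk, D.vanish_u k hk, D.vanish_v k hk, eP,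
    Finset.sum_eq_zero (s := family h D.hT D.hn)
      (fun χ hχ => by rw [fam_dS h D hχ hk]; simp),
    Finset.sum_eq_zero (s := family h D.hT' D.hn')
      (fun χ hχ => by rw [fam_dS h (Table.symm h D) hχ hk]; simp)] at e
  refine ne_zero_of_real h
    (E := 1 + ((Fintype.card F : ℝ) - 3) / ((Fintype.card F : ℝ) ^ 2 + 1)) ?_ ?_
  · rw [e]; simp
  · have h8 : (8 : ℝ) ≤ Fintype.card F := by exact_mod_cast card_F_ge h
    have : (0 : ℝ) < (Fintype.card F : ℝ) - 3 := by linarith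
    positivity

theorem dS_dS {k l : Fˣ} (hk : k ≠ 1) (hl : l ≠ 1) : prodSum h (dS h k) (dS h l) ≠ 0 := by
  choose! r hr hr2 using fun χ (hχ : χ ∈ pFam h) => pFam_dS_real h hχ hk
  choose! r' hr' hr2' using fun χ (hχ : χ ∈ pFam h) => pFam_dS_real h hχ hl
  have e := prodSum_split h D (dS h k) (dS h l)
  have hsq : ∑ χ ∈ pFam h, r χ ^ 2 = (Fintype.card F : ℝ) - 3 := by
    have e := pFam_column_dS h hk
    rw [Finset.sum_congr rfl (fun χ hχ => by rw [hr χ hχ, Complex.conj_ofReal, ← sq])] at e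
    apply Complex.ofReal_injective
    push_cast
    exact e
  rw [stIrr_dS h hl, stIrr_dS h hk, D.vanish_u k hk, D.vanish_v k hk,
    Finset.sum_congr (s₁ := pFam h) rfl
      (fun χ hχ => by rw [hr χ hχ, hr' χ hχ, Complex.conj_ofReal]),
    Finset.sum_eq_zero (s := family h D.hT D.hn)
      (fun χ hχ => by rw [fam_dS h D hχ hk]; simp),
    Finset.sum_eq_zero (s := family h D.hT' D.hn')
      (fun χ hχ => by rw [fam_dS h (Table.symm h D) hχ hk]; simp)] at e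
  obtain ⟨S, hS⟩ : ∃ S : ℝ, S = ∑ χ ∈ pFam h, r χ ^ 2 * r' χ := ⟨_, rfl⟩
  refine ne_zero_of_real h (E := 1 + 1 / (Fintype.card F : ℝ) ^ 2 +
    S / ((Fintype.card F : ℝ) ^ 2 + 1)) ?_ ?_
  · rw [e, hS]; simp
  · have h1 : -2 * ((Fintype.card F : ℝ) - 3) ≤ S := by
      rw [← hsq, hS, Finset.mul_sum]
      exact Finset.sum_le_sum fun χ hχ => by
        nlinarith [(abs_le.mp (hr2' χ hχ)).1, sq_nonneg (r χ)]
    have h8 : (8 : ℝ) ≤ Fintype.card F := by exact_mod_cast card_F_ge h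
    have h2 : -(1 / 2 : ℝ) ≤ S / ((Fintype.card F : ℝ) ^ 2 + 1) := by
      rw [le_div_iff₀ (by positivity)]; nlinarith
    have h3 : (0 : ℝ) < 1 / (Fintype.card F : ℝ) ^ 2 := by positivity
    linarith

theorem prodSum_four_split {a b : F} (ha : a ≠ 0) (g : ↥(Cfsg.Sz F m)) :
    prodSum h (uS h a b) g = 1 +
      conj (∑ χ ∈ pFam h, (χ : ↥(Cfsg.Sz F m) → ℂ) g) / ((Fintype.card F : ℂ) ^ 2 + 1) +
      (conj (∑ χ ∈ family h D.hT D.hn, (χ : ↥(Cfsg.Sz F m) → ℂ) g) /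
          (((Fintype.card F : ℂ) - 1) * (Nat.card ↥D.T' : ℂ)) +
        conj (∑ χ ∈ family h D.hT' D.hn', (χ : ↥(Cfsg.Sz F m) → ℂ) g) /
          (((Fintype.card F : ℂ) - 1) * (Nat.card ↥D.T : ℂ))) +
      -(Fintype.card F : ℂ) / 2 *
        conj ((D.u : ↥(Cfsg.Sz F m) → ℂ) g + (D.v : ↥(Cfsg.Sz F m) → ℂ) g) /
        ((2 : ℂ) ^ m * ((Fintype.card F : ℂ) - 1)) := by
  have hne : uS h a b ≠ 1 := fun e => ha (uS_inj h (e.trans (uS_zero h).symm)).1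
  rw [prodSum_split h D, stIrr_uS h hne, (small_four h D ha).1, (small_four h D ha).2,
    Finset.sum_congr (s₁ := pFam h) rfl
      (fun χ hχ => by rw [pFam_uS h hχ hne, one_pow, one_mul]),
    Finset.sum_congr (s₁ := family h D.hT D.hn) rfl
      (fun χ hχ => by rw [fam_uS h D hχ hne, if_neg ha, neg_one_sq, one_mul]),
    Finset.sum_congr (s₁ := family h D.hT' D.hn') rfl
      (fun χ hχ => by rw [fam_uS h (Table.symm h D) hχ hne, if_neg ha, neg_one_sq, one_mul]),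
    map_sum, map_sum, map_sum, map_add]
  ring

theorem four_torus {a b : F} (ha : a ≠ 0) {c : ↥D.T} (hc : c ≠ 1) :
    prodSum h (uS h a b) c ≠ 0 := by
  obtain ⟨p, s, hp, hs, h2, hq, ht, ht'⟩ := params h D
  have hf := D.hT.fpf c c.2 fun e => hc (Subtype.ext e)
  rw [prodSum_four_split h D ha, Finset.sum_eq_zero (fun χ hχ => pFam_fpf h hχ hf),
    family_sum h D.hT D.hn hc,
    Finset.sum_eq_zero (s := family h D.hT' D.hn') (fun χ hχ => fam_other h D hχ hc)]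
  have hqC : (Fintype.card F : ℂ) = ((2 * p ^ 2 : ℝ) : ℂ) := by rw [← hq]; simp
  have htC' : (Nat.card ↥D.T' : ℂ) = ((2 * p ^ 2 + 1 - s : ℝ) : ℂ) := by rw [← ht']; simp
  have hpC : (p : ℂ) ≠ 0 := Complex.ofReal_ne_zero.mpr (by linarith)
  have hsum : (D.u : ↥(Cfsg.Sz F m) → ℂ) c + (D.v : ↥(Cfsg.Sz F m) → ℂ) c =
      ((s / p : ℝ) : ℂ) := by
    have hsm := small_torus h D hc
    rw [h2, hqC, htC'] at hsm
    push_cast at hsm ⊢
    rw [eq_div_iff hpC]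
    linear_combination hsm
  refine ne_zero_of_real h (E := 1 + 1 / ((2 * p ^ 2 - 1) * (2 * p ^ 2 + 1 - s)) +
    -(p ^ 2) * (s / p) / (p * (2 * p ^ 2 - 1))) ?_ ?_
  · rw [hsum, hqC, htC', h2, map_zero, map_one, Complex.conj_ofReal]
    push_cast
    ring
  · have hp' : (0 : ℝ) < p := by linarith
    have hq1 : (0 : ℝ) < 2 * p ^ 2 - 1 := by nlinarith
    have ht0 : (0 : ℝ) < 2 * p ^ 2 + 1 - s := by rcases hs with rfl | rfl <;> nlinarith
    have b1 : -(4 / 5 : ℝ) ≤ -(p ^ 2) * (s / p) / (p * (2 * p ^ 2 - 1)) := by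
      rw [le_div_iff₀ (by positivity), show -(p ^ 2) * (s / p) = -(p * s) by field_simp]
      rcases hs with rfl | rfl <;> nlinarith [mul_le_mul hp hp (by norm_num) hp'.le]
    have b2 : (0 : ℝ) < 1 / ((2 * p ^ 2 - 1) * (2 * p ^ 2 + 1 - s)) := by positivity
    linarith

theorem four_dS {a b : F} (ha : a ≠ 0) {k : Fˣ} (hk : k ≠ 1) :
    prodSum h (uS h a b) (dS h k) ≠ 0 := by
  rw [prodSum_four_split h D ha, pFam_sum_dS h hk, small_dS h D hk,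
    Finset.sum_eq_zero (s := family h D.hT D.hn) (fun χ hχ => fam_dS h D hχ hk),
    Finset.sum_eq_zero (s := family h D.hT' D.hn')
      (fun χ hχ => fam_dS h (Table.symm h D) hχ hk)]
  refine ne_zero_of_real h (E := 1 + -1 / ((Fintype.card F : ℝ) ^ 2 + 1)) ?_ ?_
  · simp
  · have h8 : (8 : ℝ) ≤ Fintype.card F := by exact_mod_cast card_F_ge h
    have h2 : -(1 / 2 : ℝ) ≤ -1 / ((Fintype.card F : ℝ) ^ 2 + 1) := by
      rw [le_div_iff₀ (by positivity)]; nlinarith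
    linarith

theorem four_uS {a b : F} (ha : a ≠ 0) {c d : F} (hcd : uS h c d ≠ 1) :
    prodSum h (uS h a b) (uS h c d) ≠ 0 := by
  classical
  obtain ⟨p, s, hp, hs, h2, hq, ht, ht'⟩ := params h D
  have hqC : (Fintype.card F : ℂ) = ((2 * p ^ 2 : ℝ) : ℂ) := by rw [← hq]; simp
  have htC : (Nat.card ↥D.T : ℂ) = ((2 * p ^ 2 + 1 + s : ℝ) : ℂ) := by rw [← ht]; simp
  have htC' : (Nat.card ↥D.T' : ℂ) = ((2 * p ^ 2 + 1 - s : ℝ) : ℂ) := by rw [← ht']; simp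
  have cP : ((pFam h).card : ℂ) = ((p ^ 2 - 1 : ℝ) : ℂ) := by
    have e := card_pFam h; rw [hqC] at e; push_cast at e ⊢; linear_combination e / 2
  have c1 : ((family h D.hT D.hn).card : ℂ) = (((2 * p ^ 2 + s) / 4 : ℝ) : ℂ) := by
    have e := card_fam h D; rw [htC] at e; push_cast at e ⊢; linear_combination e / 4
  have c2 : ((family h D.hT' D.hn').card : ℂ) = (((2 * p ^ 2 - s) / 4 : ℝ) : ℂ) := by
    have e := card_fam h (Table.symm h D)
    simp only [Table.symm] at e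
    rw [htC'] at e; push_cast at e ⊢; linear_combination e / 4
  have e' := sum_fam_uS h (Table.symm h D) hcd
  simp only [Table.symm, invVal] at e'
  rw [prodSum_four_split h D ha, Finset.sum_congr rfl (fun χ hχ => pFam_uS h hχ hcd),
    Finset.sum_const, nsmul_eq_mul, mul_one, sum_fam_uS h D hcd, e', small_uS h D hcd, invVal,
    cP, c1, c2, hqC, htC, htC', h2]
  have hp' : (0 : ℝ) < p := by linarith
  have hq1 : (0 : ℝ) < 2 * p ^ 2 - 1 := by nlinarith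
  have ht0 : (0 : ℝ) < 2 * p ^ 2 + 1 - s := by rcases hs with rfl | rfl <;> nlinarith
  have ht1 : (0 : ℝ) < 2 * p ^ 2 + 1 + s := by rcases hs with rfl | rfl <;> nlinarith
  have hd : 0 < ((2 * p ^ 2 - 1) * (2 * p ^ 2 + 1 - s)) := by positivity
  have hd' : 0 < ((2 * p ^ 2 - 1) * (2 * p ^ 2 + 1 + s)) := by positivity
  have hbase : (0 : ℝ) ≤ (p ^ 2 - 1) / ((2 * p ^ 2) ^ 2 + 1) := by
    have : (0 : ℝ) ≤ p ^ 2 - 1 := by nlinarith
    positivity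
  by_cases hc : c = 0
  · simp only [if_pos hc]
    refine ne_zero_of_real h (E := 1 + (p ^ 2 - 1) / ((2 * p ^ 2) ^ 2 + 1) +
      ((2 * p ^ 2 + s) / 4 * (s - 1) / ((2 * p ^ 2 - 1) * (2 * p ^ 2 + 1 - s)) +
        (2 * p ^ 2 - s) / 4 * (-s - 1) / ((2 * p ^ 2 - 1) * (2 * p ^ 2 + 1 + s))) +
      -(p ^ 2) * (-2 * p) / (p * (2 * p ^ 2 - 1))) ?_ ?_
    · simp only [map_mul, map_sub, map_neg, Complex.conj_ofReal, map_ofNat, map_one]
      push_cast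
      ring
    · have b1 : -(13 / 4 : ℝ) / 5 ≤
          (2 * p ^ 2 + s) / 4 * (s - 1) / ((2 * p ^ 2 - 1) * (2 * p ^ 2 + 1 - s)) := by
        rw [le_div_iff₀ hd]
        rcases hs with rfl | rfl <;>
          nlinarith [mul_le_mul hp hp (by norm_num) hp'.le, pow_le_pow_left₀ (by norm_num) hp 3,
            mul_nonneg (sub_nonneg.mpr hp) (pow_nonneg hp'.le 3)]
      have b2 : -(13 / 4 : ℝ) / 5 ≤
          (2 * p ^ 2 - s) / 4 * (-s - 1) / ((2 * p ^ 2 - 1) * (2 * p ^ 2 + 1 + s)) := by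
        rw [le_div_iff₀ hd']
        rcases hs with rfl | rfl <;>
          nlinarith [mul_le_mul hp hp (by norm_num) hp'.le, pow_le_pow_left₀ (by norm_num) hp 3,
            mul_nonneg (sub_nonneg.mpr hp) (pow_nonneg hp'.le 3)]
      have b3 : (1 : ℝ) ≤ -(p ^ 2) * (-2 * p) / (p * (2 * p ^ 2 - 1)) := by
        rw [le_div_iff₀ (by positivity)]; nlinarith
      linarith
  · simp only [if_neg hc]
    refine ne_zero_of_real h (E := 1 + (p ^ 2 - 1) / ((2 * p ^ 2) ^ 2 + 1) +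
      ((2 * p ^ 2 + s) / 4 * -1 / ((2 * p ^ 2 - 1) * (2 * p ^ 2 + 1 - s)) +
        (2 * p ^ 2 - s) / 4 * -1 / ((2 * p ^ 2 - 1) * (2 * p ^ 2 + 1 + s)))) ?_ ?_
    · simp only [map_mul, map_neg, map_one, map_zero, Complex.conj_ofReal]
      push_cast
      ring
    · have b1 : -(1 / 3 : ℝ) ≤
          (2 * p ^ 2 + s) / 4 * -1 / ((2 * p ^ 2 - 1) * (2 * p ^ 2 + 1 - s)) := by
        rw [le_div_iff₀ hd]
        rcases hs with rfl | rfl <;>
          nlinarith [mul_le_mul hp hp (by norm_num) hp'.le, pow_le_pow_left₀ (by norm_num) hp 3,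
            mul_nonneg (sub_nonneg.mpr hp) (pow_nonneg hp'.le 3)]
      have b2 : -(1 / 3 : ℝ) ≤
          (2 * p ^ 2 - s) / 4 * -1 / ((2 * p ^ 2 - 1) * (2 * p ^ 2 + 1 + s)) := by
        rw [le_div_iff₀ hd']
        rcases hs with rfl | rfl <;>
          nlinarith [mul_le_mul hp hp (by norm_num) hp'.le, pow_le_pow_left₀ (by norm_num) hp 3,
            mul_nonneg (sub_nonneg.mpr hp) (pow_nonneg hp'.le 3)]
      linarith

omit D in
/-- Every non-identity element is conjugate to a standard representative. -/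
theorem classify_rep (D : Table h) {g : ↥(Cfsg.Sz F m)} (hg : g ≠ 1) :
    ∃ σ : ↥(Cfsg.Sz F m),
      (∃ a b, uS h a b ≠ 1 ∧ σ * g * σ⁻¹ = uS h a b) ∨ (∃ k, k ≠ 1 ∧ σ * g * σ⁻¹ = dS h k) ∨
      (∃ a : ↥D.T, a ≠ 1 ∧ σ * g * σ⁻¹ = a) ∨ (∃ a : ↥D.T', a ≠ 1 ∧ σ * g * σ⁻¹ = a) := by
  have hne : ∀ σ : ↥(Cfsg.Sz F m), σ * g * σ⁻¹ ≠ 1 := fun σ e =>
    hg (by rwa [mul_inv_eq_one, mul_eq_left] at e)
  by_cases hf : Fpf h g
  · rcases D.cover g hf with ⟨-, σ, hσ⟩ | ⟨-, σ, hσ⟩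
    · exact ⟨σ, Or.inr (Or.inr (Or.inl ⟨⟨_, hσ⟩, fun e => hne σ (congrArg Subtype.val e), rfl⟩))⟩
    · exact ⟨σ, Or.inr (Or.inr (Or.inr ⟨⟨_, hσ⟩, fun e => hne σ (congrArg Subtype.val e), rfl⟩))⟩
  · rcases classify h hg hf with ⟨-, σ, a, b, hσ⟩ | ⟨-, σ, k, hσ⟩
    · exact ⟨σ, Or.inl ⟨a, b, hσ ▸ hne σ, hσ⟩⟩
    · exact ⟨σ, Or.inr (Or.inl ⟨k, fun e => hne σ (by rw [← hσ, e, map_one]), hσ.symm⟩)⟩

theorem prodSum_ne_zero {x g : ↥(Cfsg.Sz F m)} (hx : 2 < orderOf x) (hg : g ≠ 1) :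
    prodSum h x g ≠ 0 := by
  have hx1 : x ≠ 1 := fun e => by rw [e, orderOf_one] at hx; omega
  obtain ⟨σ, hσ⟩ := classify_rep h D hx1
  obtain ⟨τ, hτ⟩ := classify_rep h D hg
  rw [← prodSum_conj h x g σ τ]
  have ho : orderOf (σ * x * σ⁻¹) = orderOf x := MulEquiv.orderOf_eq (MulAut.conj σ) x
  rcases hσ with ⟨a, b, hab, e⟩ | ⟨k, hk, e⟩ | ⟨a, ha, e⟩ | ⟨a, ha, e⟩ <;> rw [e]
  · have ha : a ≠ 0 := by
      intro ha
      rw [e, ha] at ho
      have h2 : uS h (0 : F) b ^ 2 = 1 := by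
        rw [sq, uS_mul h, th_zero h, zero_mul, add_zero, add_zero, add_self h, uS_zero h]
      have := Nat.le_of_dvd two_pos (orderOf_dvd_of_pow_eq_one h2)
      omega
    rcases hτ with ⟨c, d, hcd, e'⟩ | ⟨l, hl, e'⟩ | ⟨c, hc, e'⟩ | ⟨c, hc, e'⟩ <;> rw [e']
    exacts [four_uS h D ha hcd, four_dS h D ha hl, four_torus h D ha hc,
      four_torus h (Table.symm h D) ha hc]
  · rcases hτ with ⟨c, d, hcd, e'⟩ | ⟨l, hl, e'⟩ | ⟨c, hc, e'⟩ | ⟨c, hc, e'⟩ <;> rw [e']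
    exacts [dS_uS h D hk hcd, dS_dS h D hk hl,
      dS_fpf h D hk (D.hT.fpf c c.2 fun e1 => hc (Subtype.ext e1)),
      dS_fpf h D hk (D.hT'.fpf c c.2 fun e1 => hc (Subtype.ext e1))]
  · rcases hτ with ⟨c, d, hcd, e'⟩ | ⟨l, hl, e'⟩ | ⟨c, hc, e'⟩ | ⟨c, hc, e'⟩ <;> rw [e']
    exacts [torus_uS h D ha hcd, torus_dS h D ha hl, torus_same h D ha hc, torus_other h D ha hc]
  · rcases hτ with ⟨c, d, hcd, e'⟩ | ⟨l, hl, e'⟩ | ⟨c, hc, e'⟩ | ⟨c, hc, e'⟩ <;> rw [e']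
    exacts [torus_uS h (Table.symm h D) ha hcd, torus_dS h (Table.symm h D) ha hl,
      torus_other h (Table.symm h D) ha hc, torus_same h (Table.symm h D) ha hc]

omit D in
theorem exists_product {x g : ↥(Cfsg.Sz F m)} (hx : 2 < orderOf x) (hg : g ≠ 1) :
    ∃ u v : ↥(Cfsg.Sz F m), g = (u * x * u⁻¹) * (v * x * v⁻¹) := by
  classical
  obtain ⟨D⟩ := exists_table h
  have hcount := card_class_product x x g
  have hne : ((((classFinset x ×ˢ classFinset x).filter fun p => p.1 * p.2 = g).card : ℕ) : ℂ) ≠ 0 := by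
    rw [hcount]
    refine mul_ne_zero (div_ne_zero (mul_ne_zero ?_ ?_) (Nat.cast_ne_zero.mpr Nat.card_pos.ne')) ?_
    · exact Nat.cast_ne_zero.mpr (Finset.card_ne_zero.mpr ⟨x, mem_classFinset.mpr (IsConj.refl x)⟩)
    · exact Nat.cast_ne_zero.mpr (Finset.card_ne_zero.mpr ⟨x, mem_classFinset.mpr (IsConj.refl x)⟩)
    · exact prodSum_ne_zero h D hx hg
  obtain ⟨⟨a, b⟩, hab⟩ := Finset.card_ne_zero.mp (Nat.cast_ne_zero.mp hne)
  rw [Finset.mem_filter, Finset.mem_product, mem_classFinset, mem_classFinset] at hab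
  obtain ⟨⟨ha, hb⟩, hprod⟩ := hab
  obtain ⟨u, hu⟩ := isConj_iff.mp ha
  obtain ⟨v, hv⟩ := isConj_iff.mp hb
  exact ⟨u, v, by rw [hu, hv]; exact hprod.symm⟩

end Cfsg.Lib.SuzChar
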