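import Cfsg.Agent.Lib.Spec.SuzukiChar.Unipotent
import Cfsg.Agent.Lib.Linear.Suzuki.TorusCount
import Mathlib.GroupTheory.FiniteAbelian.Duality

/-!
# Characters induced from the point stabiliser of a Suzuki group

Values of the characters induced from a linear character of the point stabiliser `B`, and of the
virtual character induced from `λ + n θ` on the Sylow 2-subgroup.
-/

set_option autoImplicit false
set_option linter.unusedSectionVars false

namespace Cfsg.Lib.SuzChar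

open Cfsg Cfsg.Lib.Char Cfsg.Lib.Linear.Suz
open scoped ComplexConjugate

/-- An induced function vanishes at an element without conjugates in the subgroup. -/
theorem indFun_eq_zero {G : Type*} [Group G] [Fintype G] (H : Subgroup G) (θ : H → ℂ) {g : G}
    (hg : ∀ x : G, x⁻¹ * g * x ∉ H) : indFun H θ g = 0 := by
  simp only [indFun]
  rw [Finset.sum_eq_zero fun x _ => extendByZero_of_notMem H θ (hg x), mul_zero]

/-- The sum of the values of a nontrivial linear character vanishes. -/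
theorem sum_hom_eq_zero {A : Type*} [Group A] [Fintype A] {φ : A →* ℂˣ} (hφ : φ ≠ 1) :
    ∑ a : A, ((φ a : ℂˣ) : ℂ) = 0 := by
  obtain ⟨a₀, ha₀⟩ : ∃ a, φ a ≠ 1 := by
    by_contra hall
    push Not at hall
    exact hφ (MonoidHom.ext hall)
  have e : ∑ a : A, ((φ a : ℂˣ) : ℂ) = (φ a₀ : ℂ) * ∑ a : A, ((φ a : ℂˣ) : ℂ) := by
    rw [Finset.mul_sum]
    refine (Fintype.sum_equiv (Equiv.mulLeft a₀) _ _ fun a => ?_).symm
    simp
  by_contra hS
  exact ha₀ (Units.ext ((mul_eq_right₀ hS).mp e.symm))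

theorem conj_units_hom {A : Type*} [Group A] [Finite A] (φ : A →* ℂˣ) (a : A) :
    conj ((φ a : ℂˣ) : ℂ) = ((φ a⁻¹ : ℂˣ) : ℂ) :=
  ((isIrrCharacter_linear φ).isCharacter.apply_inv a).symm

open Classical in
theorem sum_hom_mul {A : Type*} [Group A] [Fintype A] (φ ψ : A →* ℂˣ) :
    ∑ a : A, ((φ a : ℂˣ) : ℂ) * conj ((ψ a : ℂˣ) : ℂ) =
      if φ = ψ then (Nat.card A : ℂ) else 0 := by
  split_ifs with e
  · subst e
    simp [conj_units_hom, Nat.card_eq_fintype_card]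
  · simp only [conj_units_hom, ← Units.val_mul]
    refine sum_hom_eq_zero (φ := MonoidHom.mk' (fun a => φ a * ψ a⁻¹) fun a b => ?_) fun h1 => e ?_
    · rw [map_mul, map_inv, map_inv, map_inv, map_mul, mul_inv, mul_mul_mul_comm]
    · ext a
      have := congrArg (fun f : A →* ℂˣ => f a) h1
      simp only [MonoidHom.mk'_apply, MonoidHom.one_apply, map_inv, mul_inv_eq_one] at this
      rw [this]

variable {F : Type*} [Field F] [Fintype F] [DecidableEq F] {m : ℕ} (h : Params F m)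
include h


/-- The parametrisation of the point stabiliser. -/
noncomputable def bE : F × F × Fˣ ≃ ↥(MulAction.stabilizer ↥(Cfsg.Sz F m) (Cfsg.suzukiPointInfinity F)) :=
  Equiv.ofBijective
    (fun x => ⟨uS h x.1 x.2.1 * dS h x.2.2, (mem_stab_inf_iff h).mpr ⟨_, _, _, rfl⟩⟩)
    ⟨fun x y e => by
      obtain ⟨e1, e2, e3⟩ := decomp_injective h (congrArg (fun g => g.1.1) e)
      exact Prod.ext e1 (Prod.ext e2 e3),
    fun g => by
      obtain ⟨a, b, k, e⟩ := (mem_stab_inf_iff h).mp g.2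
      exact ⟨(a, b, k), Subtype.ext e.symm⟩⟩

theorem bE_coe (a b : F) (k : Fˣ) :
    ((bE h (a, b, k) : ↥(MulAction.stabilizer ↥(Cfsg.Sz F m) (Cfsg.suzukiPointInfinity F))) : ↥(Cfsg.Sz F m)) = uS h a b * dS h k := rfl

/-- The torus coordinate, a homomorphism on the point stabiliser. -/
noncomputable def kHom : ↥(MulAction.stabilizer ↥(Cfsg.Sz F m) (Cfsg.suzukiPointInfinity F)) →* Fˣ :=
  MonoidHom.mk' (fun x => ((bE h).symm x).2.2) fun x y => by
    obtain ⟨⟨a, b, k⟩, rfl⟩ := (bE h).surjective x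
    obtain ⟨⟨a', b', k'⟩, rfl⟩ := (bE h).surjective y
    have e : bE h (a, b, k) * bE h (a', b', k') = bE h (a + (k : F) * a',
        b + (k : F) * th m (k : F) * b' + th m a * ((k : F) * a'), k * k') := by
      refine Subtype.ext ?_
      rw [Subgroup.coe_mul, bE_coe, bE_coe, bE_coe, map_mul, mul_assoc, ← mul_assoc (dS h k),
        dS_mul_uS h, ← mul_assoc, ← mul_assoc, ← mul_assoc, uS_mul h]
    simp only [e, Equiv.symm_apply_apply]

theorem kHom_bE (a b : F) (k : Fˣ) : kHom h (bE h (a, b, k)) = k := by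
  simp [kHom, MonoidHom.mk'_apply]

theorem card_units_eq : Nat.card Fˣ = Fintype.card F - 1 := by
  classical
  rw [Nat.card_eq_fintype_card, Fintype.card_units]

theorem card_BB : Nat.card ↥(MulAction.stabilizer ↥(Cfsg.Sz F m) (Cfsg.suzukiPointInfinity F)) = Fintype.card F ^ 2 * (Fintype.card F - 1) := by
  rw [card_stab_inf h, h.card]

theorem card_G : Nat.card ↥(Cfsg.Sz F m) =
    Fintype.card F ^ 2 * (Fintype.card F ^ 2 + 1) * (Fintype.card F - 1) := by
  rw [card_Sz' h, h.card]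

theorem index_BB : ((MulAction.stabilizer ↥(Cfsg.Sz F m) (Cfsg.suzukiPointInfinity F))).index = Fintype.card F ^ 2 + 1 := by
  have e := ((MulAction.stabilizer ↥(Cfsg.Sz F m) (Cfsg.suzukiPointInfinity F))).index_mul_card
  rw [card_BB h, card_G h] at e
  have h8 := h.card ▸ q_ge h
  have hpos : 0 < Fintype.card F ^ 2 * (Fintype.card F - 1) :=
    Nat.mul_pos (by positivity) (by omega)
  exact Nat.eq_of_mul_eq_mul_right hpos (e.trans (by ring))

theorem index_US : (US h).index = (Fintype.card F ^ 2 + 1) * (Fintype.card F - 1) := by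
  have e := (US h).index_mul_card
  rw [← card_US_eq h, card_G h] at e
  have hpos : 0 < Fintype.card F ^ 2 := by positivity
  exact Nat.eq_of_mul_eq_mul_right hpos (e.trans (by ring))

theorem card_F_ge : 8 ≤ Fintype.card F := h.card ▸ q_ge h

theorem coprime_order {g : ↥(Cfsg.Sz F m)} (h4 : g ^ 4 = 1) {n : ℕ} (hn : g ^ n = 1) (hodd : ¬ 2 ∣ n) :
    g = 1 := by
  have hd := Nat.dvd_gcd (orderOf_dvd_of_pow_eq_one hn) (orderOf_dvd_of_pow_eq_one h4)
  have hco : Nat.Coprime n (2 ^ 2) :=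
    Nat.Coprime.pow_right _ (Nat.prime_two.coprime_iff_not_dvd.mpr hodd).symm
  rwa [show n.gcd 4 = 1 from hco, Nat.dvd_one, orderOf_eq_one_iff] at hd

theorem units_pow (k : Fˣ) : k ^ (Fintype.card F - 1) = 1 := by
  rw [← card_units_eq h]
  exact pow_card_eq_one'

theorem card_sub_one_odd : ¬ 2 ∣ Fintype.card F - 1 := by
  have h8 := card_F_ge h
  have h2 : 2 ∣ Fintype.card F := h.card ▸ dvd_pow_self 2 (by omega)
  omega

theorem dS_notMem_US {k : Fˣ} (hk : k ≠ 1) (x : ↥(Cfsg.Sz F m)) : x⁻¹ * dS h k * x ∉ US h := by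
  intro hu
  refine hk (dS_injective h ?_)
  rw [map_one]
  have h4 := pow_four_of_mem_US' hu
  have e1 : (x⁻¹ * dS h k * x) ^ (Fintype.card F - 1) = 1 := by
    rw [show x⁻¹ * dS h k * x = MulAut.conj x⁻¹ (dS h k) by simp [mul_assoc], ← map_pow, ← map_pow,
      units_pow h, map_one, map_one]
  have e := coprime_order h h4 e1 (card_sub_one_odd h)
  rwa [mul_eq_one_iff_eq_inv, inv_mul_eq_iff_eq_mul, mul_inv_cancel] at e
where
  pow_four_of_mem_US' {u : ↥(Cfsg.Sz F m)} (hu : u ∈ US h) : u ^ 4 = 1 :=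
    congrArg Subtype.val (Monoid.exponent_dvd_iff_forall_pow_eq_one.mp
      (show Monoid.exponent ↥(US h) ∣ 4 by rw [(US_props h).1]) (⟨u, hu⟩ : ↥(US h)))

theorem mem_BB_of_conj_mem {u : ↥(Cfsg.Sz F m)} (hu : u ∈ US h) (hne : u ≠ 1) {x : ↥(Cfsg.Sz F m)}
    (hx : x⁻¹ * u * x ∈ (MulAction.stabilizer ↥(Cfsg.Sz F m) (Cfsg.suzukiPointInfinity F))) : x ∈ (MulAction.stabilizer ↥(Cfsg.Sz F m) (Cfsg.suzukiPointInfinity F)) := by
  obtain ⟨a, b, rfl⟩ := hu
  rw [MulAction.mem_stabilizer_iff, mul_smul, mul_smul, inv_smul_eq_iff] at hx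
  rw [MulAction.mem_stabilizer_iff]
  exact fix_unique h hne (mem_Sz_iff.mp x.2 _ (mem_inf m)) hx

/-- A sum supported on the point stabiliser. -/
theorem sum_BB [Fintype ↥(Cfsg.Sz F m)] {f : ↥(Cfsg.Sz F m) → ℂ} (hf : ∀ x, x ∉ (MulAction.stabilizer ↥(Cfsg.Sz F m) (Cfsg.suzukiPointInfinity F)) → f x = 0) :
    ∑ x, f x = ∑ a : F, ∑ b : F, ∑ k : Fˣ, f (uS h a b * dS h k) := by
  classical
  rw [← Finset.sum_filter_of_ne (p := fun x => x ∈ (MulAction.stabilizer ↥(Cfsg.Sz F m) (Cfsg.suzukiPointInfinity F))) (fun x _ hx => by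
      by_contra hn; exact hx (hf x hn)),
    Finset.sum_subtype (p := fun x => x ∈ (MulAction.stabilizer ↥(Cfsg.Sz F m) (Cfsg.suzukiPointInfinity F))) _ (fun x => by simp)]
  rw [← Fintype.sum_equiv (bE h) (fun z => f (bE h z : ↥(Cfsg.Sz F m))) _ (fun z => rfl),
    Fintype.sum_prod_type]
  refine Finset.sum_congr rfl fun a _ => ?_
  rw [Fintype.sum_prod_type]
  rfl

theorem dS_conj_uS (k : Fˣ) (a b : F) :
    dS h k * uS h a b * (dS h k)⁻¹ = uS h ((k : F) * a) ((k : F) * th m (k : F) * b) := by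
  rw [dS_mul_uS h, mul_inv_cancel_right]

/-- The values on `U` of a function induced from a class function on `U`. -/
theorem indFun_US_apply [Fintype ↥(Cfsg.Sz F m)] {θ : ↥(US h) → ℂ} (hθ : IsClassFunction ↥(US h) θ) {a b : F}
    (hab : uS h a b ≠ 1) :
    indFun (US h) θ (uS h a b) =
      ∑ k : Fˣ, θ (uE h ((k : F) * a, (k : F) * th m (k : F) * b)) := by
  classical
  simp only [indFun]
  rw [sum_BB h (fun x hx => extendByZero_of_notMem _ _ fun hu =>
    hx (mem_BB_of_conj_mem h ⟨a, b, rfl⟩ hab ?_))]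
  · have key : ∀ (a' b' : F) (k : Fˣ),
        extendByZero (US h) θ ((uS h a' b' * dS h k)⁻¹ * uS h a b * (uS h a' b' * dS h k)) =
          θ (uE h (((k⁻¹ : Fˣ) : F) * a, ((k⁻¹ : Fˣ) : F) * th m ((k⁻¹ : Fˣ) : F) * b)) := by
      intro a' b' k
      obtain ⟨z, hz⟩ : ∃ z : ↥(US h), (z : ↥(Cfsg.Sz F m)) = dS h k⁻¹ * (uS h a' b')⁻¹ * (dS h k⁻¹)⁻¹ := by
        refine ⟨⟨_, ?_⟩, rfl⟩
        rw [uS_inv h, dS_conj_uS h]
        exact ⟨_, _, rfl⟩
      have e : (uS h a' b' * dS h k)⁻¹ * uS h a b * (uS h a' b' * dS h k) =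
          ((z * uE h (((k⁻¹ : Fˣ) : F) * a, ((k⁻¹ : Fˣ) : F) * th m ((k⁻¹ : Fˣ) : F) * b) * z⁻¹ :
            ↥(US h)) : ↥(Cfsg.Sz F m)) := by
        rw [Subgroup.coe_mul, Subgroup.coe_mul, Subgroup.coe_inv, hz, uE_coe, ← dS_conj_uS h]
        simp only [map_inv]
        group
      rw [e, extendByZero_coe, hθ]
    simp only [key, Finset.sum_const, Finset.card_univ, nsmul_eq_mul]
    rw [← card_US_eq h, Nat.cast_pow, ← mul_assoc ((Fintype.card F : ℂ)), ← mul_assoc, ← sq,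
      inv_mul_cancel₀ (pow_ne_zero _ (Nat.cast_ne_zero.mpr Fintype.card_ne_zero)), one_mul]
    exact Fintype.sum_equiv (Equiv.inv Fˣ) _ _ fun k => rfl
  · obtain ⟨a', b', e⟩ := hu
    rw [e]
    exact (mem_stab_inf_iff h).mpr ⟨a', b', 1, by rw [map_one, mul_one]⟩

/-- The virtual character induced from `λ + n θ`. -/
noncomputable def bigPsi [Fintype ↥(Cfsg.Sz F m)] (n : ℤ) : ↥(Cfsg.Sz F m) → ℂ := indFun (US h) (psi h n)

theorem bigPsi_virtual [Fintype ↥(Cfsg.Sz F m)] (n : ℤ) : IsGeneralizedCharacter ↥(Cfsg.Sz F m) (bigPsi h n) := by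
  haveI := Fintype.ofFinite ↥(US h)
  exact isGeneralizedCharacter_indFun _ (psi_virtual h n)

theorem psi_one (n : ℤ) : psi h n 1 = 1 + (n : ℂ) * (2 : ℂ) ^ (m + 1) := by
  classical
  rw [← uE_zero h, psi_uE h, if_pos rfl, mu_zero h, Units.val_one, mul_one]

theorem bigPsi_one [Fintype ↥(Cfsg.Sz F m)] (n : ℤ) : bigPsi h n 1 =
    ((Fintype.card F : ℂ) ^ 2 + 1) * ((Fintype.card F : ℂ) - 1) *
      (1 + (n : ℂ) * (2 : ℂ) ^ (m + 1)) := by
  rw [bigPsi, indFun_apply_one, index_US h, psi_one h]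
  push_cast [Nat.cast_sub (show 1 ≤ Fintype.card F from Fintype.card_pos)]
  ring

theorem sum_units_mu_th {c : F} (hc : c ≠ 0) :
    ∑ k : Fˣ, ((mu h ((k : F) * th m (k : F) * c) : ℂˣ) : ℂ) = -1 := by
  classical
  rw [← sum_units_mu h hc]
  have hinj : Function.Injective fun k : Fˣ =>
      Units.mk0 ((k : F) * th m (k : F))
        (mul_ne_zero k.ne_zero fun e => k.ne_zero ((th_eq_zero h).mp e)) :=
    fun k l e => Units.ext (mul_th_inj h (congrArg Units.val e))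
  exact Fintype.sum_bijective _ (Finite.injective_iff_bijective.mp hinj) _ _ fun k => rfl

theorem bigPsi_uS [Fintype ↥(Cfsg.Sz F m)] (n : ℤ) {a b : F} (hab : uS h a b ≠ 1) :
    bigPsi h n (uS h a b) =
      if a = 0 then ((Fintype.card F : ℂ) - 1) - (n : ℂ) * (2 : ℂ) ^ (m + 1) else -1 := by
  classical
  haveI := Fintype.ofFinite ↥(US h)
  rw [bigPsi, indFun_US_apply h (psi_virtual h n).isClassFunction hab]
  simp only [psi_uE h]
  by_cases ha : a = 0
  · subst ha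
    have hb : b ≠ 0 := fun e => hab (by rw [e, uS_zero h])
    simp only [mul_zero, if_true, mu_zero h, Units.val_one, Finset.sum_add_distrib,
      Finset.sum_const, Finset.card_univ, nsmul_eq_mul, mul_one, ← Finset.mul_sum,
      sum_units_mu_th h hb]
    rw [Fintype.card_units, Nat.cast_sub (Fintype.card_pos (α := F))]
    push_cast
    ring
  · rw [if_neg ha]
    simp only [mul_eq_zero, Units.ne_zero, ha, or_self, if_false, add_zero]
    exact sum_units_mu h ha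

theorem bigPsi_eq_zero [Fintype ↥(Cfsg.Sz F m)] (n : ℤ) {g : ↥(Cfsg.Sz F m)} (hg : ∀ x : ↥(Cfsg.Sz F m), x⁻¹ * g * x ∉ US h) :
    bigPsi h n g = 0 := indFun_eq_zero _ _ hg

theorem bigPsi_norm [Fintype ↥(Cfsg.Sz F m)] (n : ℤ) :
    classInner (bigPsi h n) (bigPsi h n) = (((Fintype.card F : ℂ) ^ 2))⁻¹ *
      (((Fintype.card F : ℂ) ^ 2 + 1) * ((Fintype.card F : ℂ) - 1) *
          (1 + (n : ℂ) * (2 : ℂ) ^ (m + 1)) ^ 2 +
        (((Fintype.card F : ℂ) - 1) - (n : ℂ) * (2 : ℂ) ^ (m + 1)) ^ 2 + Fintype.card F) := by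
  classical
  haveI := Fintype.ofFinite ↥(US h)
  conv_lhs => arg 2; rw [bigPsi]
  rw [classInner_indFun_right _ _ (bigPsi_virtual h n).isClassFunction, classInner, ← card_US_eq h,
    Nat.cast_pow]
  congr 1
  rw [← Fintype.sum_equiv (uE h)
    (fun x => bigPsi h n (uE h x : ↥(Cfsg.Sz F m)) * conj (psi h n (uE h x))) _ (fun x => rfl),
    Fintype.sum_prod_type, ← Finset.sum_erase_add _ _ (Finset.mem_univ (0 : F)),
    ← Finset.sum_erase_add (s := (Finset.univ : Finset F))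
      (f := fun b => bigPsi h n (uE h ((0 : F), b) : ↥(Cfsg.Sz F m)) * conj (psi h n (uE h ((0 : F), b))))
      (a := 0) (Finset.mem_univ _)]
  simp only [psi_conj h, uE_coe]
  obtain ⟨R, hR⟩ : ∃ R : ℂ, R = (n : ℂ) * (2 : ℂ) ^ (m + 1) := ⟨_, rfl⟩
  have hmu : ∑ x ∈ Finset.univ.erase (0 : F), ((mu h x : ℂˣ) : ℂ) = -1 := by
    have e := sum_mu h
    rw [← Finset.sum_erase_add _ _ (Finset.mem_univ (0 : F)), mu_zero h, Units.val_one] at e
    linear_combination e
  have h1 : ∑ a ∈ Finset.univ.erase (0 : F), ∑ b : F,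
      bigPsi h n (uS h a b) * psi h n (uE h (a, b)) = (Fintype.card F : ℂ) := by
    have e : ∀ a ∈ Finset.univ.erase (0 : F), ∀ b : F,
        bigPsi h n (uS h a b) * psi h n (uE h (a, b)) = -((mu h a : ℂˣ) : ℂ) := by
      intro a ha b
      have ha0 := (Finset.mem_erase.mp ha).1
      rw [bigPsi_uS h n (fun e => ha0 (uS_inj h (e.trans (uS_zero h).symm)).1), psi_uE h,
        if_neg ha0, if_neg ha0, add_zero, neg_one_mul]
    rw [Finset.sum_congr rfl fun a ha => Finset.sum_congr rfl (fun b _ => e a ha b)]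
    simp only [Finset.sum_const, Finset.card_univ, nsmul_eq_mul, ← Finset.mul_sum,
      Finset.sum_neg_distrib, hmu, neg_neg, mul_one]
  have h2 : ∑ b ∈ Finset.univ.erase (0 : F),
      bigPsi h n (uS h (0 : F) b) * psi h n (uE h ((0 : F), b)) =
        (((Fintype.card F : ℂ) - 1) - R) * (((Fintype.card F : ℂ) - 1) - R) := by
    have e : ∀ b ∈ Finset.univ.erase (0 : F),
        bigPsi h n (uS h (0 : F) b) * psi h n (uE h ((0 : F), b)) =
          (((Fintype.card F : ℂ) - 1) - R) * (1 + R * ((mu h b : ℂˣ) : ℂ)) := by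
      intro b hb
      rw [bigPsi_uS h n (fun e => (Finset.mem_erase.mp hb).1 (uS_inj h (e.trans (uS_zero h).symm)).2),
        psi_uE h, if_pos rfl, if_pos rfl, mu_zero h, Units.val_one, hR]
    rw [Finset.sum_congr rfl e, ← Finset.mul_sum, Finset.sum_add_distrib, ← Finset.mul_sum, hmu,
      Finset.sum_const, Finset.card_erase_of_mem (Finset.mem_univ _), Finset.card_univ,
      nsmul_eq_mul, Nat.cast_sub (Fintype.card_pos (α := F))]
    push_cast
    ring
  rw [h1, h2, uS_zero h, uE_zero h, bigPsi_one h, psi_one h, ← hR]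
  ring

/-- The character induced from a linear character of the torus coordinate. -/
noncomputable def pSer [Fintype ↥(Cfsg.Sz F m)] (lam : Fˣ →* ℂˣ) : ↥(Cfsg.Sz F m) → ℂ :=
  indFun (MulAction.stabilizer ↥(Cfsg.Sz F m) (Cfsg.suzukiPointInfinity F)) (fun x => ((lam (kHom h x) : ℂˣ) : ℂ))

theorem pSer_char [Fintype ↥(Cfsg.Sz F m)] (lam : Fˣ →* ℂˣ) : IsCharacter ↥(Cfsg.Sz F m) (pSer h lam) :=
  isCharacter_indFun _ (isIrrCharacter_linear (lam.comp (kHom h))).isCharacter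

theorem pSer_one [Fintype ↥(Cfsg.Sz F m)] (lam : Fˣ →* ℂˣ) :
    pSer h lam 1 = (Fintype.card F : ℂ) ^ 2 + 1 := by
  rw [pSer, indFun_apply_one, index_BB h, map_one, map_one, Units.val_one, mul_one]
  push_cast
  rfl

theorem pSer_fpf [Fintype ↥(Cfsg.Sz F m)] (lam : Fˣ →* ℂˣ) {g : ↥(Cfsg.Sz F m)} (hg : Fpf h g) : pSer h lam g = 0 :=
  indFun_eq_zero _ _ fun x hx => by
    have := fpf_conj h hg x⁻¹
    rw [inv_inv] at this
    exact not_fpf_stab h hx this

theorem pSer_uS [Fintype ↥(Cfsg.Sz F m)] (lam : Fˣ →* ℂˣ) {a b : F} (hab : uS h a b ≠ 1) :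
    pSer h lam (uS h a b) = 1 := by
  classical
  simp only [pSer, indFun]
  rw [sum_BB h (fun x hx => extendByZero_of_notMem _ _ fun hu =>
    hx (mem_BB_of_conj_mem h ⟨a, b, rfl⟩ hab hu))]
  have key : ∀ (a' b' : F) (k : Fˣ),
      extendByZero (MulAction.stabilizer ↥(Cfsg.Sz F m) (Cfsg.suzukiPointInfinity F)) (fun x => ((lam (kHom h x) : ℂˣ) : ℂ))
        ((uS h a' b' * dS h k)⁻¹ * uS h a b * (uS h a' b' * dS h k)) = 1 := by
    intro a' b' k
    rw [← bE_coe h, show uS h a b = ((bE h (a, b, 1) : ↥(MulAction.stabilizer ↥(Cfsg.Sz F m) (Cfsg.suzukiPointInfinity F))) : ↥(Cfsg.Sz F m)) by rw [bE_coe, map_one, mul_one],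
      ← Subgroup.coe_inv, ← Subgroup.coe_mul, ← Subgroup.coe_mul, extendByZero_coe]
    simp [map_mul, map_inv, kHom_bE]
  simp only [key, Finset.sum_const, Finset.card_univ, nsmul_eq_mul, mul_one]
  rw [card_BB h, Fintype.card_units]
  have h8 := card_F_ge h
  push_cast [Nat.cast_sub (show 1 ≤ Fintype.card F by omega)]
  have : (Fintype.card F : ℂ) - 1 ≠ 0 :=
    sub_ne_zero.mpr (by exact_mod_cast (by omega : Fintype.card F ≠ 1))
  field_simp

theorem pSer_dS [Fintype ↥(Cfsg.Sz F m)] (lam : Fˣ →* ℂˣ) {k : Fˣ} (hk : k ≠ 1) :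
    pSer h lam (dS h k) = ((lam k : ℂˣ) : ℂ) + ((lam k⁻¹ : ℂˣ) : ℂ) := by
  classical
  haveI := Fintype.ofFinite ↥(MulAction.stabilizer ↥(Cfsg.Sz F m) (Cfsg.suzukiPointInfinity F))
  obtain ⟨f, hf⟩ : ∃ f : ↥(Cfsg.Sz F m) → ℂ, f = fun x =>
      extendByZero (MulAction.stabilizer ↥(Cfsg.Sz F m) (Cfsg.suzukiPointInfinity F)) (fun x => ((lam (kHom h x) : ℂˣ) : ℂ)) (x⁻¹ * dS h k * x) := ⟨_, rfl⟩
  have hmem : ∀ x : ↥(Cfsg.Sz F m), x⁻¹ * dS h k * x ∈ (MulAction.stabilizer ↥(Cfsg.Sz F m) (Cfsg.suzukiPointInfinity F)) → x ∈ (MulAction.stabilizer ↥(Cfsg.Sz F m) (Cfsg.suzukiPointInfinity F)) ∨ (wS h)⁻¹ * x ∈ (MulAction.stabilizer ↥(Cfsg.Sz F m) (Cfsg.suzukiPointInfinity F)) := by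
    intro x hx
    rw [MulAction.mem_stabilizer_iff, mul_smul, mul_smul, inv_smul_eq_iff] at hx
    rcases mem_ovoid_iff.mp (mem_Sz_iff.mp x.2 _ (mem_inf m)) with e | ⟨X, Y, e⟩
    · exact Or.inl e
    · refine Or.inr ?_
      change dHom F m k • (x.1 • Cfsg.suzukiPointInfinity F) = x.1 • Cfsg.suzukiPointInfinity F at hx
      rw [e] at hx
      obtain ⟨rfl, rfl⟩ := dS_fix h hk hx
      show ((wS h)⁻¹ * x).1 • Cfsg.suzukiPointInfinity F = Cfsg.suzukiPointInfinity F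
      rw [Subgroup.coe_mul, mul_smul, Subgroup.coe_inv]
      rw [e, inv_smul_eq_iff]
      exact (wSL_inf h).symm
  have hdisj : ∀ x : ↥(Cfsg.Sz F m), x ∈ (MulAction.stabilizer ↥(Cfsg.Sz F m) (Cfsg.suzukiPointInfinity F)) → (wS h)⁻¹ * x ∉ (MulAction.stabilizer ↥(Cfsg.Sz F m) (Cfsg.suzukiPointInfinity F)) := by
    intro x hx hx'
    have e : wS h ∈ (MulAction.stabilizer ↥(Cfsg.Sz F m) (Cfsg.suzukiPointInfinity F)) := by
      have := mul_mem hx (inv_mem hx')
      rwa [mul_inv_rev, inv_inv, mul_inv_cancel_left] at this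
    exact inf_ne_pA m (0 : F) 0 ((wSL_inf h).symm.trans e).symm
  have hsplit : ∑ x, f x = ∑ x, (if x ∈ (MulAction.stabilizer ↥(Cfsg.Sz F m) (Cfsg.suzukiPointInfinity F)) then f x else 0) +
      ∑ x, (if (wS h)⁻¹ * x ∈ (MulAction.stabilizer ↥(Cfsg.Sz F m) (Cfsg.suzukiPointInfinity F)) then f x else 0) := by
    rw [← Finset.sum_add_distrib]
    refine Finset.sum_congr rfl fun x _ => ?_
    by_cases hx : x⁻¹ * dS h k * x ∈ (MulAction.stabilizer ↥(Cfsg.Sz F m) (Cfsg.suzukiPointInfinity F))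
    · rcases hmem x hx with hB | hB
      · rw [if_pos hB, if_neg (hdisj x hB), add_zero]
      · rw [if_neg fun hB' => hdisj x hB' hB, if_pos hB, zero_add]
    · have : f x = 0 := by rw [hf]; exact extendByZero_of_notMem _ _ hx
      simp [this]
  have key : ∀ (k' : Fˣ) (z : ↥(MulAction.stabilizer ↥(Cfsg.Sz F m) (Cfsg.suzukiPointInfinity F))), extendByZero (MulAction.stabilizer ↥(Cfsg.Sz F m) (Cfsg.suzukiPointInfinity F)) (fun x => ((lam (kHom h x) : ℂˣ) : ℂ))
      ((z : ↥(Cfsg.Sz F m))⁻¹ * dS h k' * z) = ((lam k' : ℂˣ) : ℂ) := by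
    intro k' z
    rw [show dS h k' = ((bE h (0, 0, k') : ↥(MulAction.stabilizer ↥(Cfsg.Sz F m) (Cfsg.suzukiPointInfinity F))) : ↥(Cfsg.Sz F m)) by rw [bE_coe, uS_zero h, one_mul],
      ← Subgroup.coe_inv, ← Subgroup.coe_mul, ← Subgroup.coe_mul, extendByZero_coe]
    simp [map_mul, map_inv, kHom_bE, mul_right_comm]
  have hS1 : ∑ x, (if x ∈ (MulAction.stabilizer ↥(Cfsg.Sz F m) (Cfsg.suzukiPointInfinity F)) then f x else 0) = (Nat.card ↥(MulAction.stabilizer ↥(Cfsg.Sz F m) (Cfsg.suzukiPointInfinity F)) : ℂ) * ((lam k : ℂˣ) : ℂ) := by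
    rw [← Finset.sum_filter, Finset.sum_subtype (F := Fintype.ofFinite _) (p := fun x => x ∈ (MulAction.stabilizer ↥(Cfsg.Sz F m) (Cfsg.suzukiPointInfinity F))) _ (fun x => by simp)]
    rw [hf]
    simp [key, Nat.card_eq_fintype_card]
  have hS2 : ∑ x, (if (wS h)⁻¹ * x ∈ (MulAction.stabilizer ↥(Cfsg.Sz F m) (Cfsg.suzukiPointInfinity F)) then f x else 0) =
      (Nat.card ↥(MulAction.stabilizer ↥(Cfsg.Sz F m) (Cfsg.suzukiPointInfinity F)) : ℂ) * ((lam k⁻¹ : ℂˣ) : ℂ) := by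
    rw [← Fintype.sum_equiv (Equiv.mulLeft (wS h)) (fun y => if y ∈ (MulAction.stabilizer ↥(Cfsg.Sz F m) (Cfsg.suzukiPointInfinity F)) then f (wS h * y) else 0) _
      (fun y => by simp), ← Finset.sum_filter,
      Finset.sum_subtype (F := Fintype.ofFinite _) (p := fun x => x ∈ (MulAction.stabilizer ↥(Cfsg.Sz F m) (Cfsg.suzukiPointInfinity F))) _ (fun x => by simp)]
    have e : (wS h)⁻¹ * dS h k * wS h = dS h k⁻¹ := by
      rw [mul_assoc, inv_mul_eq_iff_eq_mul, wS_conj h, inv_inv]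
    rw [hf]
    simp only [mul_inv_rev, mul_assoc]
    simp only [← mul_assoc ((wS h)⁻¹), ← mul_assoc (dS h k), ← mul_assoc ((wS h)⁻¹ * dS h k), e]
    simp only [← mul_assoc, key]
    simp [Nat.card_eq_fintype_card]
  rw [show pSer h lam (dS h k) = (Nat.card ↥(MulAction.stabilizer ↥(Cfsg.Sz F m) (Cfsg.suzukiPointInfinity F)) : ℂ)⁻¹ * ∑ x, f x by rw [hf]; rfl, hsplit, hS1, hS2]
  have hne : (Nat.card ↥(MulAction.stabilizer ↥(Cfsg.Sz F m) (Cfsg.suzukiPointInfinity F)) : ℂ) ≠ 0 := Nat.cast_ne_zero.mpr Nat.card_pos.ne'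
  field_simp

theorem conj_dS_of_ne_one {a b : F} {k : Fˣ} (hk : k ≠ 1) :
    ∃ z : ↥(Cfsg.Sz F m), z * dS h k * z⁻¹ = uS h a b * dS h k := by
  classical
  let f : F × F → F × F := fun x =>
    (uE h).symm (uE h x * (uE h ((k : F) * x.1, (k : F) * th m (k : F) * x.2))⁻¹)
  have hcomm : ∀ x : F × F, uS h x.1 x.2 * dS h k * (uS h x.1 x.2)⁻¹ =
      uS h (f x).1 (f x).2 * dS h k := by
    intro x
    rw [← uE_coe h (f x)]
    simp only [f, Equiv.apply_symm_apply, Subgroup.coe_mul, Subgroup.coe_inv, uE_coe,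
      ← dS_conj_uS h]
    group
  have hinj : Function.Injective f := by
    intro x y e
    have e' := (hcomm x).trans ((congrArg (fun z : F × F => uS h z.1 z.2 * dS h k) e).trans
      (hcomm y).symm)
    have hc : (uS h y.1 y.2)⁻¹ * uS h x.1 x.2 ∈ Subgroup.centralizer ({dS h k} : Set ↥(Cfsg.Sz F m)) := by
      rw [Subgroup.mem_centralizer_singleton_iff]
      calc (uS h y.1 y.2)⁻¹ * uS h x.1 x.2 * dS h k
          = (uS h y.1 y.2)⁻¹ * (uS h x.1 x.2 * dS h k * (uS h x.1 x.2)⁻¹) * uS h x.1 x.2 := by group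
        _ = dS h k * ((uS h y.1 y.2)⁻¹ * uS h x.1 x.2) := by rw [e']; group
    rw [centralizer_DS h ⟨k, rfl⟩ fun e1 => hk (dS_injective h (e1.trans (map_one _).symm))] at hc
    obtain ⟨l, hl⟩ := hc
    have hl1 : l = 1 := by
      by_contra hl1
      refine dS_notMem_US h hl1 1 ?_
      rw [inv_one, one_mul, mul_one, hl]
      exact mul_mem (inv_mem ⟨_, _, rfl⟩) ⟨_, _, rfl⟩
    rw [hl1, map_one, eq_comm, inv_mul_eq_one] at hl
    exact (Prod.ext (uS_inj h hl).1 (uS_inj h hl).2).symm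
  obtain ⟨x, hx⟩ := (Finite.injective_iff_surjective.mp hinj) (a, b)
  exact ⟨uS h x.1 x.2, by rw [hcomm, hx]⟩

open Classical in
theorem pSer_inner [Fintype ↥(Cfsg.Sz F m)] (lam lam' : Fˣ →* ℂˣ) :
    classInner (pSer h lam) (pSer h lam') =
      (if lam = lam' then 1 else 0) + (if lam = lam'⁻¹ then 1 else 0) := by
  classical
  haveI := Fintype.ofFinite ↥(MulAction.stabilizer ↥(Cfsg.Sz F m) (Cfsg.suzukiPointInfinity F))
  conv_lhs => arg 2; rw [pSer]
  rw [classInner_indFun_right _ _ (pSer_char h lam).isClassFunction, classInner, card_BB h]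
  rw [← Fintype.sum_equiv (bE h) (fun x => pSer h lam (bE h x : ↥(Cfsg.Sz F m)) *
    conj ((lam' (kHom h (bE h x)) : ℂˣ) : ℂ)) _ (fun x => rfl)]
  obtain ⟨v, hv⟩ : ∃ v : Fˣ → ℂ, ∀ k, v k =
      (((lam k : ℂˣ) : ℂ) + ((lam k⁻¹ : ℂˣ) : ℂ)) * conj ((lam' k : ℂˣ) : ℂ) := ⟨_, fun _ => rfl⟩
  have hval : ∀ (a b : F) (k : Fˣ), pSer h lam (bE h (a, b, k) : ↥(Cfsg.Sz F m)) *
      conj ((lam' (kHom h (bE h (a, b, k))) : ℂˣ) : ℂ) =
      v k + (if k = 1 then
        (if a = 0 ∧ b = 0 then (Fintype.card F : ℂ) ^ 2 else 0) - 1 else 0) := by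
    intro a b k
    rw [kHom_bE, bE_coe, hv]
    by_cases hk : k = 1
    · subst hk
      simp only [map_one, mul_one, inv_one, Units.val_one, if_true]
      split_ifs with hab
      · rw [hab.1, hab.2, uS_zero h, pSer_one h]; ring
      · rw [pSer_uS h lam fun e => hab (uS_inj h (e.trans (uS_zero h).symm))]; ring
    · obtain ⟨z, hz⟩ := conj_dS_of_ne_one h (a := a) (b := b) hk
      rw [if_neg hk, add_zero, ← hz, (pSer_char h lam).isClassFunction, pSer_dS h lam hk]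
  rw [Fintype.sum_prod_type]
  simp only [Fintype.sum_prod_type, hval, Finset.sum_add_distrib, Finset.sum_sub_distrib,
    Finset.sum_ite_eq', Finset.mem_univ, if_true, Finset.sum_const, Finset.card_univ,
    nsmul_eq_mul, mul_one, ite_and, Finset.sum_ite_eq]
  have hv' : ∑ k, v k = (if lam = lam' then (Nat.card Fˣ : ℂ) else 0) +
      (if lam = lam'⁻¹ then (Nat.card Fˣ : ℂ) else 0) := by
    simp only [hv, add_mul, Finset.sum_add_distrib, sum_hom_mul]
    congr 1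
    have : ∀ k : Fˣ, ((lam k⁻¹ : ℂˣ) : ℂ) = (((lam⁻¹ : Fˣ →* ℂˣ) k : ℂˣ) : ℂ) := fun k => by
      rw [map_inv]; rfl
    simp only [this, sum_hom_mul]
    exact if_congr ⟨fun e => by rw [← e]; ext; simp, fun e => by rw [e]; ext; simp⟩ rfl rfl
  simp only [Finset.sum_ite_irrel, Finset.sum_const_zero, Finset.sum_ite_eq', Finset.mem_univ, if_true]
  rw [hv', card_units_eq h]
  have h8 := card_F_ge h
  have : (Fintype.card F : ℂ) - 1 ≠ 0 :=
    sub_ne_zero.mpr (by exact_mod_cast (by omega : Fintype.card F ≠ 1))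
  push_cast [Nat.cast_sub (show 1 ≤ Fintype.card F by omega)]
  split_ifs <;> field_simp <;> ring

end Cfsg.Lib.SuzChar
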