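import Cfsg.Agent.Lib.Spec.SuzukiChar.Torus
import Cfsg.Agent.Lib.Linear.Suzuki.Partition
import Cfsg.Prelude.Def_DegreeGraph

/-!
# The character degrees of the Suzuki groups

The degrees are `1`, `q²`, `q² + 1`, `(q - 1)(q ± r + 1)` and `2^m (q - 1)`, where `r = 2^(m+1)`.
-/

set_option autoImplicit false
set_option linter.unusedSectionVars false

namespace Cfsg.Lib.SuzChar

open Cfsg Cfsg.Lib.Char Cfsg.Lib.Linear.Suz
open scoped ComplexConjugate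

/-- An odd power of two is in one way a sum of two squares. -/
theorem two_squares : ∀ (m a b : ℕ), a ^ 2 + b ^ 2 = 2 ^ (2 * m + 1) → a = 2 ^ m ∧ b = 2 ^ m := by
  intro m
  induction m with
  | zero =>
    intro a b e
    norm_num at e
    have ha : a ≤ 1 := by nlinarith
    have hb : b ≤ 1 := by nlinarith
    interval_cases a <;> interval_cases b <;> simp_all
  | succ m ih =>
    intro a b e
    have e8 : 2 ^ (2 * (m + 1) + 1) = 4 * 2 ^ (2 * m + 1) := by ring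
    rw [e8] at e
    rcases Nat.even_or_odd a with ⟨a', rfl⟩ | ⟨a', rfl⟩ <;>
      rcases Nat.even_or_odd b with ⟨b', rfl⟩ | ⟨b', rfl⟩ <;> ring_nf at e <;> try omega
    obtain ⟨rfl, rfl⟩ := ih a' b' (by ring_nf; omega)
    constructor <;> ring

theorem exists_nat_degree_of_vanish {G : Type*} [Group G] {A : Type*} [Group A] [Fintype A]
    (f : A →* G) {χ : G → ℂ} (hχ : IsCharacter G χ) (hv : ∀ a : A, a ≠ 1 → χ (f a) = 0) :
    ∃ e : ℕ, χ 1 = (Nat.card A : ℂ) * (e : ℂ) := by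
  obtain ⟨e, he⟩ := (hχ.comp f).exists_nat_classInner
    (isIrrCharacter_one (G := A)).isCharacter
  refine ⟨e, ?_⟩
  rw [classInner, Finset.sum_eq_single (1 : A) (fun a _ ha => by rw [hv a ha, zero_mul]) (by simp),
    map_one, map_one, mul_one] at he
  rw [← he, ← mul_assoc, mul_inv_cancel₀ (Nat.cast_ne_zero.mpr Nat.card_pos.ne'), one_mul]

variable {F : Type*} [Field F] [Fintype F] [DecidableEq F] {m : ℕ} (h : Params F m)
include h

theorem q_eq : (Fintype.card F : ℂ) = (2 : ℂ) ^ (2 * m + 1) := by rw [h.card]; push_cast; rfl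

theorem ne_inv_self {lam : Fˣ →* ℂˣ} (hlam : lam ≠ 1) : lam ≠ lam⁻¹ := fun e => by
  refine hlam (MonoidHom.ext fun k => ?_)
  have e2 : lam k ^ 2 = 1 := by
    have := DFunLike.congr_fun e k
    rw [MonoidHom.inv_apply, eq_inv_iff_mul_eq_one] at this
    rwa [sq]
  have e3 : lam k ^ (Fintype.card F - 1) = 1 := by rw [← map_pow, units_pow h, map_one]
  have hd := Nat.dvd_gcd (orderOf_dvd_of_pow_eq_one e2) (orderOf_dvd_of_pow_eq_one e3)
  rw [show Nat.gcd 2 (Fintype.card F - 1) = 1 from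
    Nat.prime_two.coprime_iff_not_dvd.mpr (card_sub_one_odd h), Nat.dvd_one, orderOf_eq_one_iff] at hd
  exact hd

theorem pSer_irr [Fintype ↥(Cfsg.Sz F m)] {lam : Fˣ →* ℂˣ} (hlam : lam ≠ 1) :
    IsIrrCharacter ↥(Cfsg.Sz F m) (pSer h lam) := by
  refine isIrrCharacter_of_norm_one (pSer_char h lam) ?_
  rw [pSer_inner h, if_pos rfl, if_neg (ne_inv_self h hlam), add_zero]

/-- The Steinberg character. -/
noncomputable def steinberg [Fintype ↥(Cfsg.Sz F m)] : ↥(Cfsg.Sz F m) → ℂ :=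
  pSer h 1 - fun _ => 1

theorem steinberg_one [Fintype ↥(Cfsg.Sz F m)] : steinberg h 1 = (Fintype.card F : ℂ) ^ 2 := by
  rw [steinberg, Pi.sub_apply, pSer_one h, add_sub_cancel_right]

theorem steinberg_irr [Fintype ↥(Cfsg.Sz F m)] : IsIrrCharacter ↥(Cfsg.Sz F m) (steinberg h) := by
  haveI := Fintype.ofFinite
    ↥(MulAction.stabilizer ↥(Cfsg.Sz F m) (Cfsg.suzukiPointInfinity F))
  have h01 : classInner (pSer h 1) (fun _ => (1 : ℂ)) = 1 := by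
    rw [pSer, classInner_indFun _ _ (isCharacter_one).isClassFunction]
    simp only [classInner, map_one, MonoidHom.one_apply, Units.val_one, mul_one, Finset.sum_const,
      Finset.card_univ, nsmul_eq_mul, ← Nat.card_eq_fintype_card]
    exact inv_mul_cancel₀ (Nat.cast_ne_zero.mpr Nat.card_pos.ne')
  have h10 : classInner (fun _ => (1 : ℂ)) (pSer h 1) = 1 := by
    rw [← classInner_conj_symm, h01, map_one]
  have hn : classInner (steinberg h) (steinberg h) = 1 := by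
    rw [steinberg, classInner_sub_left, classInner_sub_right, classInner_sub_right, h01, h10,
      classInner_irr_self isIrrCharacter_one, pSer_inner h, if_pos rfl, if_pos (show (1 : Fˣ →* ℂˣ) = (1 : Fˣ →* ℂˣ)⁻¹ from
        MonoidHom.ext fun x => by simp)]
    ring
  obtain ⟨ε, μ, hε, e⟩ := exists_signed_irr_of_norm_one
    ((pSer_char h 1).isGeneralized.sub isCharacter_one.isGeneralized) hn
  rw [show steinberg h = (ε : ℂ) • (μ : ↥(Cfsg.Sz F m) → ℂ) from e]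
  rcases hε with rfl | rfl
  · simpa using μ.2
  · exfalso
    obtain ⟨d, hd0, hd⟩ := μ.2.exists_degree
    have e1 := congrFun (show steinberg h = _ from e) 1
    rw [steinberg_one h, Pi.smul_apply, hd, smul_eq_mul] at e1
    have : ((Fintype.card F ^ 2 + d : ℕ) : ℂ) = 0 := by push_cast at e1 ⊢; linear_combination e1
    rw [Nat.cast_eq_zero] at this
    omega

theorem column_dS [Fintype ↥(Cfsg.Sz F m)] {k : Fˣ} (hk : k ≠ 1) :
    ∑ χ : IrrCharacter ↥(Cfsg.Sz F m),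
      (χ : ↥(Cfsg.Sz F m) → ℂ) (dS h k) * conj ((χ : ↥(Cfsg.Sz F m) → ℂ) (dS h k)) =
      (Fintype.card F : ℂ) - 1 := by
  classical
  rw [column_orthogonality, if_pos (IsConj.refl _),
    centralizer_DS h ⟨k, rfl⟩ (fun e => hk (dS_injective h (e.trans (map_one _).symm))), card_DS h,
    ← h.card, Nat.cast_sub (Fintype.card_pos (α := F)), Nat.cast_one]

/-- The principal series character. -/
noncomputable def pIrr [Fintype ↥(Cfsg.Sz F m)] (lam : {lam : Fˣ →* ℂˣ // lam ≠ 1}) :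
    IrrCharacter ↥(Cfsg.Sz F m) :=
  ⟨pSer h lam, pSer_irr h lam.2⟩

open Classical in
theorem sum_pIrr [Fintype ↥(Cfsg.Sz F m)] [Fintype {lam : Fˣ →* ℂˣ // lam ≠ 1}]
    (g : IrrCharacter ↥(Cfsg.Sz F m) → ℂ) :
    ∑ lam : {lam : Fˣ →* ℂˣ // lam ≠ 1}, g (pIrr h lam) =
      2 * ∑ χ ∈ Finset.univ.filter (fun χ => ∃ lam, pIrr h lam = χ), g χ := by
  rw [← Finset.sum_fiberwise_of_maps_to
    (t := Finset.univ.filter (fun χ => ∃ lam, pIrr h lam = χ)) (g := pIrr h)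
    (fun lam _ => Finset.mem_filter.mpr ⟨Finset.mem_univ _, lam, rfl⟩), Finset.mul_sum]
  refine Finset.sum_congr rfl fun χ hχ => ?_
  obtain ⟨-, lam₀, rfl⟩ := Finset.mem_filter.mp hχ
  rw [Finset.sum_congr rfl (g := fun _ => g (pIrr h lam₀))
    (fun lam hl => by rw [(Finset.mem_filter.mp hl).2]), Finset.sum_const, nsmul_eq_mul]
  congr 1
  rw [← Finset.sum_boole]
  have e : ∀ lam : {lam : Fˣ →* ℂˣ // lam ≠ 1},
      (if pIrr h lam = pIrr h lam₀ then (1 : ℂ) else 0) =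
        (if lam₀.1 = lam.1 then 1 else 0) + (if lam₀.1 = lam.1⁻¹ then 1 else 0) := by
    intro lam
    rw [← pSer_inner h, classInner_irr (pSer_irr h lam₀.2) (pSer_irr h lam.2)]
    exact if_congr ⟨fun e => (congrArg Subtype.val e).symm, fun e => Subtype.ext e.symm⟩ rfl rfl
  rw [Finset.sum_congr rfl fun lam _ => e lam, Finset.sum_add_distrib,
    Finset.sum_eq_single lam₀ (fun lam _ hl => if_neg fun e' => hl (Subtype.ext e'.symm)) (by simp)]
  have e1 : (∑ lam : {lam : Fˣ →* ℂˣ // lam ≠ 1},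
      if lam₀.1 = lam.1⁻¹ then (1 : ℂ) else 0) = 1 := by
    refine (Finset.sum_eq_single (⟨lam₀.1⁻¹, fun e => lam₀.2 (MonoidHom.ext fun k => by simpa using DFunLike.congr_fun e k)⟩ : {lam : Fˣ →* ℂˣ // lam ≠ 1})
      (fun lam _ hl => if_neg fun e' => hl (Subtype.ext ?_)) (by simp)).trans (if_pos ?_)
    · exact MonoidHom.ext fun x => by simp [e']
    · exact MonoidHom.ext fun x => by simp
  rw [e1, if_pos rfl]
  norm_num

theorem card_units_dual : Nat.card (Fˣ →* ℂˣ) = Fintype.card F - 1 := by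
  rw [card_monoidHom_units, card_units_eq h]

theorem finite_units_dual : Finite (Fˣ →* ℂˣ) :=
  Nat.finite_of_card_ne_zero (by rw [card_units_dual h]; have := card_F_ge h; omega)

theorem sum_units_dual [Fintype (Fˣ →* ℂˣ)] (k : Fˣ) :
    ∑ lam : Fˣ →* ℂˣ, ((lam k : ℂˣ) : ℂ) =
      if k = 1 then (Fintype.card F : ℂ) - 1 else 0 := by
  split_ifs with hk
  · subst hk
    have e := card_units_dual h
    rw [Nat.card_eq_fintype_card] at e
    simp [e, Nat.cast_sub (Fintype.card_pos (α := F))]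
  · obtain ⟨φ, hφ⟩ := CommGroup.exists_apply_ne_one_of_hasEnoughRootsOfUnity Fˣ ℂ hk
    have e : ∑ lam : Fˣ →* ℂˣ, ((lam k : ℂˣ) : ℂ) =
        (φ k : ℂ) * ∑ lam : Fˣ →* ℂˣ, ((lam k : ℂˣ) : ℂ) := by
      rw [Finset.mul_sum]
      refine (Fintype.sum_equiv (Equiv.mulLeft φ) _ _ fun lam => ?_).symm
      simp
    by_contra hS
    exact hφ (Units.ext ((mul_eq_right₀ hS).mp e.symm))

theorem sum_pSer_dS [Fintype ↥(Cfsg.Sz F m)] [Fintype (Fˣ →* ℂˣ)]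
    [Fintype {lam : Fˣ →* ℂˣ // lam ≠ 1}] {k : Fˣ} (hk : k ≠ 1) :
    ∑ lam : {lam : Fˣ →* ℂˣ // lam ≠ 1}, pSer h lam.1 (dS h k) * conj (pSer h lam.1 (dS h k)) =
      2 * ((Fintype.card F : ℂ) - 3) := by
  classical
  rw [← Finset.sum_subtype (Finset.univ.erase (1 : Fˣ →* ℂˣ)) (fun x => by simp)
    (fun lam => pSer h lam (dS h k) * conj (pSer h lam (dS h k))),
    Finset.sum_erase_eq_sub (Finset.mem_univ _)]
  have hk2 : k * k ≠ 1 := fun e2 => hk (by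
    have hd := Nat.dvd_gcd (orderOf_dvd_of_pow_eq_one (show k ^ 2 = 1 by rw [sq, e2]))
      (orderOf_dvd_of_pow_eq_one (units_pow h k))
    rwa [show Nat.gcd 2 (Fintype.card F - 1) = 1 from
      Nat.prime_two.coprime_iff_not_dvd.mpr (card_sub_one_odd h), Nat.dvd_one,
      orderOf_eq_one_iff] at hd)
  simp only [pSer_dS h _ hk, map_add, conj_units_hom, inv_inv, add_mul, mul_add, ← Units.val_mul,
    ← map_mul, mul_inv_cancel, inv_mul_cancel, Finset.sum_add_distrib, sum_units_dual h, map_one,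
    Units.val_one, if_true]
  rw [if_neg hk2, if_neg (fun e2 => hk2 (by rw [← inv_eq_one, mul_inv_rev]; exact e2))]
  have ec := card_units_dual h
  rw [Nat.card_eq_fintype_card] at ec
  simp only [MonoidHom.one_apply, Units.val_one, Finset.sum_const, Finset.card_univ, nsmul_eq_mul,
    ec, Nat.cast_sub (Fintype.card_pos (α := F))]
  push_cast
  ring

/-- The trivial character. -/
noncomputable def oneIrr (_h : Params F m) [Fintype ↥(Cfsg.Sz F m)] : IrrCharacter ↥(Cfsg.Sz F m) :=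
  ⟨fun _ => 1, isIrrCharacter_one⟩

/-- The Steinberg character as an element of the set of irreducible characters. -/
noncomputable def stIrr [Fintype ↥(Cfsg.Sz F m)] : IrrCharacter ↥(Cfsg.Sz F m) :=
  ⟨steinberg h, steinberg_irr h⟩

open Classical in
/-- The principal series. -/
noncomputable def pFam [Fintype ↥(Cfsg.Sz F m)] : Finset (IrrCharacter ↥(Cfsg.Sz F m)) :=
  Finset.univ.filter fun χ => ∃ lam, pIrr h lam = χ

/-- The partition of the irreducible characters, with respect to the two tori without fixed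
points. -/
structure Table [Fintype ↥(Cfsg.Sz F m)] where
  /-- The first torus. -/
  T : Subgroup ↥(Cfsg.Sz F m)
  /-- The second torus. -/
  T' : Subgroup ↥(Cfsg.Sz F m)
  hT : Torus h T
  hT' : Torus h T'
  /-- The coefficient of the first family. -/
  n : ℤ
  /-- The coefficient of the second family. -/
  n' : ℤ
  hn : Matches h hT n
  hn' : Matches h hT' n'
  eT : 1 + (n : ℂ) * (2 : ℂ) ^ (m + 1) = (Nat.card ↥T' : ℂ)
  eT' : 1 + (n' : ℂ) * (2 : ℂ) ^ (m + 1) = (Nat.card ↥T : ℂ)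
  coprime : (Nat.card ↥T).Coprime (Nat.card ↥T')
  coprime_sub : (Nat.card ↥T).Coprime (Fintype.card F - 1)
  coprime_sub' : (Nat.card ↥T').Coprime (Fintype.card F - 1)
  mul_eq : Nat.card ↥T * Nat.card ↥T' = Fintype.card F ^ 2 + 1
  add_eq : Nat.card ↥T + Nat.card ↥T' = 2 * Fintype.card F + 2
  five_le : 5 ≤ Nat.card ↥T
  five_le' : 5 ≤ Nat.card ↥T'
  cover : ∀ z, Fpf h z → z ∈ conjSet T ∨ z ∈ conjSet T'
  /-- The first small character. -/
  u : IrrCharacter ↥(Cfsg.Sz F m)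
  /-- The second small character. -/
  v : IrrCharacter ↥(Cfsg.Sz F m)
  deg_u : (u : ↥(Cfsg.Sz F m) → ℂ) 1 = ((2 ^ m * (Fintype.card F - 1) : ℕ) : ℂ)
  deg_v : (v : ↥(Cfsg.Sz F m) → ℂ) 1 = ((2 ^ m * (Fintype.card F - 1) : ℕ) : ℂ)
  vanish_u : ∀ k : Fˣ, k ≠ 1 → (u : ↥(Cfsg.Sz F m) → ℂ) (dS h k) = 0
  vanish_v : ∀ k : Fˣ, k ≠ 1 → (v : ↥(Cfsg.Sz F m) → ℂ) (dS h k) = 0
  notMem : ∀ lam, phiIrr h hT hn lam ≠ u ∧ phiIrr h hT hn lam ≠ v
  notMem' : ∀ lam, phiIrr h hT' hn' lam ≠ u ∧ phiIrr h hT' hn' lam ≠ v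
  split : ∀ g : IrrCharacter ↥(Cfsg.Sz F m) → ℂ, ∑ χ, g χ =
    g (oneIrr h) + g (stIrr h) + ∑ χ ∈ pFam h, g χ +
      (∑ χ ∈ family h hT hn, g χ + ∑ χ ∈ family h hT' hn', g χ) + (g u + g v)

open Classical in
/-- The table exists. -/
theorem exists_table [Fintype ↥(Cfsg.Sz F m)] : Nonempty (Table h) := by
  obtain ⟨x₁, x₂, hx₁, hx₂, c₁, c₂, N₁, N₂, hcover⟩ := tori h
  obtain ⟨T₁, eT₁⟩ : ∃ T, T = Subgroup.centralizer ({x₁} : Set ↥(Cfsg.Sz F m)) := ⟨_, rfl⟩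
  obtain ⟨T₂, eT₂⟩ : ∃ T, T = Subgroup.centralizer ({x₂} : Set ↥(Cfsg.Sz F m)) := ⟨_, rfl⟩
  have hT₁ : Torus h T₁ := eT₁ ▸ torus_of_fpf h hx₁ N₁
  have hT₂ : Torus h T₂ := eT₂ ▸ torus_of_fpf h hx₂ N₂
  rw [← eT₁] at c₁
  rw [← eT₂] at c₂
  obtain ⟨q, hq⟩ : ∃ q, q = Fintype.card F := ⟨_, rfl⟩
  obtain ⟨t₁, ht₁⟩ : ∃ t, t = Nat.card ↥T₁ := ⟨_, rfl⟩
  obtain ⟨t₂, ht₂⟩ : ∃ t, t = Nat.card ↥T₂ := ⟨_, rfl⟩
  have h8 : 8 ≤ q := hq ▸ card_F_ge h
  obtain ⟨M, hM⟩ : ∃ M, M = 2 ^ m := ⟨_, rfl⟩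
  have hM2 : 2 ≤ M := hM ▸ Nat.le_self_pow (by have := h.pos; omega) 2
  have hqM : q = 2 * M * M := by rw [hq, h.card, hM]; ring
  have hr : 2 ^ (m + 1) = 2 * M := by rw [hM, pow_succ']
  rw [← ht₁, ← h.card, ← hq, hr] at c₁
  rw [← ht₂, ← h.card, ← hq, hr] at c₂
  have h2q : 2 * M ≤ q := by rw [hqM]; exact Nat.le_mul_of_pos_right _ (by omega)
  have hsub : t₂ + 2 * M = q + 1 := by omega
  have hprod : t₁ * t₂ = q ^ 2 + 1 := by
    zify at c₁ hsub hqM ⊢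
    linear_combination (t₂ : ℤ) * c₁ + ((q : ℤ) + 2 * M + 1) * hsub + 2 * hqM
  have hMC : (M : ℂ) = (2 : ℂ) ^ m := by rw [hM]; push_cast; rfl
  have hr' : (2 : ℂ) ^ (m + 1) = 2 * (M : ℂ) := by rw [hMC, pow_succ']
  have hqC : (q : ℂ) = 2 * (M : ℂ) * M := by rw [hqM]; push_cast; ring
  have c₁' : (t₁ : ℂ) = q + 2 * M + 1 := by rw [c₁]; push_cast; ring
  have c₂' : (t₂ : ℂ) = q + 1 - 2 * M := by
    have : ((t₂ + 2 * M : ℕ) : ℂ) = ((q + 1 : ℕ) : ℂ) := by rw [hsub]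
    push_cast at this
    linear_combination this
  have hn₁ : Matches h hT₁ ((M : ℤ) - 1) := by
    refine ⟨?_, ?_⟩ <;> rw [← ht₁, ← hq, hr', c₁'] <;> push_cast
    · linear_combination ((q : ℂ) + 2 * M + 1) * (-hqC) + 2 * hqC
    · linear_combination -hqC
  have hn₂ : Matches h hT₂ ((M : ℤ) + 1) := by
    refine ⟨?_, ?_⟩ <;> rw [← ht₂, ← hq, hr', c₂'] <;> push_cast
    · linear_combination ((q : ℂ) + 1 - 2 * M) * (-hqC) + 2 * hqC
    · linear_combination -hqC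
  have he₁ : 1 + (((M : ℤ) - 1 : ℤ) : ℂ) * (2 : ℂ) ^ (m + 1) = (t₂ : ℂ) := by
    rw [hr', c₂']; push_cast; linear_combination -hqC
  have he₂ : 1 + (((M : ℤ) + 1 : ℤ) : ℂ) * (2 : ℂ) ^ (m + 1) = (t₁ : ℂ) := by
    rw [hr', c₁']; push_cast; linear_combination -hqC
  have hcast : ((q - 1 : ℕ) : ℂ) = (q : ℂ) - 1 := by rw [Nat.cast_sub (by omega), Nat.cast_one]
  obtain ⟨one, hone', hone⟩ : ∃ χ : IrrCharacter ↥(Cfsg.Sz F m),
      χ = oneIrr h ∧ (χ : ↥(Cfsg.Sz F m) → ℂ) = fun _ => 1 := ⟨_, rfl, rfl⟩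
  obtain ⟨st, hst', hst⟩ : ∃ χ : IrrCharacter ↥(Cfsg.Sz F m),
      χ = stIrr h ∧ (χ : ↥(Cfsg.Sz F m) → ℂ) = steinberg h := ⟨_, rfl, rfl⟩
  haveI := finite_units_dual h
  haveI := Fintype.ofFinite (Fˣ →* ℂˣ)
  obtain ⟨P, hP⟩ : ∃ P, P = Finset.univ.filter
    (fun χ : IrrCharacter ↥(Cfsg.Sz F m) => ∃ lam, pIrr h lam = χ) := ⟨_, rfl⟩
  obtain ⟨F₁, hF₁⟩ : ∃ F₁, F₁ = family h hT₁ hn₁ := ⟨_, rfl⟩
  obtain ⟨F₂, hF₂⟩ : ∃ F₂, F₂ = family h hT₂ hn₂ := ⟨_, rfl⟩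
  have d_one : (one : ↥(Cfsg.Sz F m) → ℂ) 1 = ((1 : ℕ) : ℂ) := by rw [hone, Nat.cast_one]
  have d_st : (st : ↥(Cfsg.Sz F m) → ℂ) 1 = ((q ^ 2 : ℕ) : ℂ) := by
    rw [hst, steinberg_one h, hq]; push_cast; rfl
  have d_P : ∀ χ ∈ P, (χ : ↥(Cfsg.Sz F m) → ℂ) 1 = ((q ^ 2 + 1 : ℕ) : ℂ) := by
    intro χ hχ
    rw [hP] at hχ
    obtain ⟨-, lam, rfl⟩ := Finset.mem_filter.mp hχ
    show pSer h lam.1 1 = _
    rw [pSer_one h, hq]; push_cast; rfl
  have d_F₁ : ∀ χ ∈ F₁, (χ : ↥(Cfsg.Sz F m) → ℂ) 1 = (((q - 1) * t₂ : ℕ) : ℂ) := by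
    intro χ hχ
    obtain ⟨lam, rfl⟩ := (mem_family h hT₁).mp (hF₁ ▸ hχ)
    show phi h hT₁ _ lam.1 1 = _
    rw [phi_one h hT₁ hn₁, he₁, Nat.cast_mul, hcast, hq]
  have d_F₂ : ∀ χ ∈ F₂, (χ : ↥(Cfsg.Sz F m) → ℂ) 1 = (((q - 1) * t₁ : ℕ) : ℂ) := by
    intro χ hχ
    obtain ⟨lam, rfl⟩ := (mem_family h hT₂).mp (hF₂ ▸ hχ)
    show phi h hT₂ _ lam.1 1 = _
    rw [phi_one h hT₂ hn₂, he₂, Nat.cast_mul, hcast, hq]
  have hco : Nat.Coprime t₁ (q - 1) := by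
    refine comp_coprime h ?_ ?_ (by omega)
    · exact Or.inr (Or.inl (by rw [c₁, hq, h.card, hr]))
    · exact Or.inl (by rw [hq, h.card])
  have hco₂ : Nat.Coprime t₂ (q - 1) := by
    rcases eq_or_ne t₂ (q - 1) with e | hne
    · omega
    refine comp_coprime h ?_ ?_ hne
    · exact Or.inr (Or.inr (by rw [c₂, hq, h.card, hr]; rfl))
    · exact Or.inl (by rw [hq, h.card])
  have hco₁₂ : Nat.Coprime t₁ t₂ := by
    refine comp_coprime h ?_ ?_ (by omega)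
    · exact Or.inr (Or.inl (by rw [c₁, hq, h.card, hr]))
    · exact Or.inr (Or.inr (by rw [c₂, hq, h.card, hr]; rfl))
  have hMq : 2 * M < q := by
    rw [hqM]
    exact lt_mul_of_one_lt_right (by omega) (by omega)
  -- the degrees are distinct
  have hq2 : q < q ^ 2 := by rw [sq]; exact lt_mul_of_one_lt_right (by omega) (by omega)
  have hpar1 : ¬ 2 ∣ (q - 1) * t₁ ∧ ¬ 2 ∣ (q - 1) * t₂ ∧ 2 ∣ q ^ 2 ∧ ¬ 2 ∣ q ^ 2 + 1 := by
    have h2 : 2 ∣ q := ⟨M * M, by rw [hqM]; ring⟩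
    have h2' : 2 ∣ q ^ 2 := dvd_pow h2 two_ne_zero
    refine ⟨?_, ?_, h2', by omega⟩ <;> rw [Nat.prime_two.dvd_mul] <;> omega
  have hne₁ : (q - 1) * t₁ ≠ q ^ 2 + 1 := fun e => by
    rw [← hprod, mul_comm t₁, mul_left_inj' (by omega)] at e
    rw [← e, Nat.coprime_self] at hco₂
    omega
  have hne₂ : (q - 1) * t₂ ≠ q ^ 2 + 1 := fun e => by
    rw [← hprod, mul_left_inj' (by omega)] at e
    rw [← e, Nat.coprime_self] at hco
    omega
  have hne₃ : (q - 1) * t₂ ≠ (q - 1) * t₁ := fun e => by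
    rw [mul_right_inj' (by omega : q - 1 ≠ 0)] at e
    omega
  have hne₄ : 1 < (q - 1) * t₁ ∧ 1 < (q - 1) * t₂ :=
    ⟨Nat.one_lt_mul_iff.mpr (by omega), Nat.one_lt_mul_iff.mpr (by omega)⟩
  obtain ⟨R, hR⟩ : ∃ R, R = Finset.univ \ ((({one, st} : Finset _) ∪ P) ∪ (F₁ ∪ F₂)) := ⟨_, rfl⟩
  have dne : ∀ {a b : IrrCharacter ↥(Cfsg.Sz F m)} {x y : ℕ},
      (a : ↥(Cfsg.Sz F m) → ℂ) 1 = (x : ℂ) → (b : ↥(Cfsg.Sz F m) → ℂ) 1 = (y : ℂ) → x ≠ y →
      a ≠ b := fun ha hb hne e => hne (by subst e; exact_mod_cast ha.symm.trans hb)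
  have hsplit : ∀ g : IrrCharacter ↥(Cfsg.Sz F m) → ℂ, ∑ χ, g χ =
      g one + g st + ∑ χ ∈ P, g χ + (∑ χ ∈ F₁, g χ + ∑ χ ∈ F₂, g χ) + ∑ χ ∈ R, g χ := by
    intro g
    have hos : one ≠ st := dne d_one d_st (by omega)
    have hd1 : Disjoint ({one, st} : Finset _) P := by
      rw [Finset.disjoint_left]
      intro a ha haP
      rcases Finset.mem_insert.mp ha with rfl | ha
      · exact dne d_one (d_P _ haP) (by omega) rfl
      · rw [Finset.mem_singleton] at ha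
        subst ha
        exact dne d_st (d_P _ haP) (by omega) rfl
    have hd2 : Disjoint F₁ F₂ := by
      rw [Finset.disjoint_left]
      exact fun a h1 h2 => dne (d_F₁ a h1) (d_F₂ a h2) hne₃ rfl
    have hd3 : Disjoint (({one, st} : Finset _) ∪ P) (F₁ ∪ F₂) := by
      rw [Finset.disjoint_left]
      intro a ha hb
      obtain ⟨x, hx, hx'⟩ : ∃ x, (a : ↥(Cfsg.Sz F m) → ℂ) 1 = (x : ℕ) ∧
          x ∈ [1, q ^ 2, q ^ 2 + 1] := by
        rcases Finset.mem_union.mp ha with ha | ha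
        · rcases Finset.mem_insert.mp ha with rfl | ha
          · exact ⟨1, d_one, by simp⟩
          · rw [Finset.mem_singleton] at ha
            subst ha
            exact ⟨_, d_st, by simp⟩
        · exact ⟨_, d_P a ha, by simp⟩
      simp only [List.mem_cons, List.not_mem_nil, or_false] at hx'
      obtain ⟨hp1, hp2, hp3, -⟩ := hpar1
      rcases Finset.mem_union.mp hb with hb | hb
      · refine dne hx (d_F₁ a hb) ?_ rfl
        rcases hx' with rfl | rfl | rfl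
        · omega
        · exact fun e => hp2 (e ▸ hp3)
        · exact hne₂.symm
      · refine dne hx (d_F₂ a hb) ?_ rfl
        rcases hx' with rfl | rfl | rfl
        · omega
        · exact fun e => hp1 (e ▸ hp3)
        · exact hne₁.symm
    rw [← Finset.sum_sdiff (Finset.subset_univ ((({one, st} : Finset _) ∪ P) ∪ (F₁ ∪ F₂))), ← hR,
      Finset.sum_union hd3, Finset.sum_union hd1, Finset.sum_union hd2, Finset.sum_pair hos]
    ring
  have hnotF₁ : ∀ χ ∈ R, ∀ lam, phiIrr h hT₁ hn₁ lam ≠ χ := by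
    intro χ hχ lam e
    rw [hR] at hχ
    exact (Finset.mem_sdiff.mp hχ).2 (Finset.mem_union_right _ (Finset.mem_union_left _
      (hF₁ ▸ (mem_family h hT₁).mpr ⟨lam, e⟩)))
  -- the diagonal torus
  obtain ⟨k, hk⟩ : ∃ k : Fˣ, k ≠ 1 := by
    obtain ⟨k₀, hk0, hk1⟩ := exists_ne_zero_one h
    exact ⟨Units.mk0 k₀ hk0, fun e => hk1 (congrArg Units.val e)⟩
  have hPsum : ∀ g : IrrCharacter ↥(Cfsg.Sz F m) → ℂ,
      ∑ lam : {lam : Fˣ →* ℂˣ // lam ≠ 1}, g (pIrr h lam) = 2 * ∑ χ ∈ P, g χ := fun g => by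
    rw [sum_pIrr h g, hP]
  have cardP : 2 * (P.card : ℂ) = (q : ℂ) - 2 := by
    have e := hPsum (fun _ => 1)
    simp only [Finset.sum_const, Finset.card_univ, nsmul_eq_mul, mul_one] at e
    rw [← e, Fintype.card_subtype_compl, Fintype.card_subtype_eq, ← Nat.card_eq_fintype_card,
      card_units_dual h, ← hq, Nat.cast_sub (by omega), hcast, Nat.cast_one]
    ring
  have hvanish : ∀ χ ∈ R, ∀ k : Fˣ, k ≠ 1 → (χ : ↥(Cfsg.Sz F m) → ℂ) (dS h k) = 0 := by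
    intro χ hχ k hk
    have e := column_dS h hk
    rw [hsplit] at e
    have eP : ∑ χ ∈ P, (χ : ↥(Cfsg.Sz F m) → ℂ) (dS h k) *
        conj ((χ : ↥(Cfsg.Sz F m) → ℂ) (dS h k)) = (q : ℂ) - 3 := by
      have e2 := hPsum fun χ => (χ : ↥(Cfsg.Sz F m) → ℂ) (dS h k) *
        conj ((χ : ↥(Cfsg.Sz F m) → ℂ) (dS h k))
      simp only [pIrr, sum_pSer_dS h hk] at e2
      rw [hq]
      linear_combination -e2 / 2
    have eF₁ : ∑ χ ∈ F₁, (χ : ↥(Cfsg.Sz F m) → ℂ) (dS h k) *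
        conj ((χ : ↥(Cfsg.Sz F m) → ℂ) (dS h k)) = 0 := Finset.sum_eq_zero fun a ha => by
      obtain ⟨lam, rfl⟩ := (mem_family h hT₁).mp (hF₁ ▸ ha)
      show phi h hT₁ _ lam.1 _ * _ = 0
      rw [phi_dS h hT₁ _ _ hk, zero_mul]
    have eF₂ : ∑ χ ∈ F₂, (χ : ↥(Cfsg.Sz F m) → ℂ) (dS h k) *
        conj ((χ : ↥(Cfsg.Sz F m) → ℂ) (dS h k)) = 0 := Finset.sum_eq_zero fun a ha => by
      obtain ⟨lam, rfl⟩ := (mem_family h hT₂).mp (hF₂ ▸ ha)
      show phi h hT₂ _ lam.1 _ * _ = 0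
      rw [phi_dS h hT₂ _ _ hk, zero_mul]
    rw [eP, eF₁, eF₂, hone, hst, steinberg, Pi.sub_apply, pSer_dS h _ hk] at e
    simp only [MonoidHom.one_apply, Units.val_one, map_sub, map_add, map_one] at e
    have e0 : ∑ χ ∈ R, (χ : ↥(Cfsg.Sz F m) → ℂ) (dS h k) *
        conj ((χ : ↥(Cfsg.Sz F m) → ℂ) (dS h k)) = 0 := by
      rw [← hq] at e
      linear_combination e
    simp only [Complex.mul_conj, ← Complex.ofReal_sum, Complex.ofReal_eq_zero] at e0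
    exact Complex.normSq_eq_zero.mp
      ((Finset.sum_eq_zero_iff_of_nonneg fun a _ => Complex.normSq_nonneg _).mp e0 χ hχ)
  have hdeg : ∀ χ : IrrCharacter ↥(Cfsg.Sz F m), ∃ e : ℕ,
      χ ∈ R → (χ : ↥(Cfsg.Sz F m) → ℂ) 1 = (((q - 1) * e : ℕ) : ℂ) := by
    intro χ
    by_cases hχ : χ ∈ R
    · obtain ⟨e, he⟩ := exists_nat_degree_of_vanish (dS h) χ.2.isCharacter (hvanish χ hχ)
      exact ⟨e, fun _ => by rw [he, card_units_eq h, ← hq, Nat.cast_mul]⟩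
    · exact ⟨0, fun h' => absurd h' hχ⟩
  choose e he using hdeg
  have hesum : ∑ χ ∈ R, e χ ^ 2 = q := by
    have hs := sum_sq_degree (G := ↥(Cfsg.Sz F m))
    rw [hsplit, d_one, d_st, Finset.sum_congr rfl fun a ha => by rw [d_P a ha],
      Finset.sum_congr (s₁ := F₁) rfl fun a ha => by rw [d_F₁ a ha],
      Finset.sum_congr (s₁ := F₂) rfl fun a ha => by rw [d_F₂ a ha],
      Finset.sum_congr (s₁ := R) rfl fun a ha => by rw [he a ha]] at hs
    simp only [Finset.sum_const, nsmul_eq_mul, card_G h, ← hq] at hs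
    have k₁ := card_family h hT₁ hn₁
    have k₂ := card_family h hT₂ hn₂
    rw [← hF₁, ← ht₁] at k₁
    rw [← hF₂, ← ht₂] at k₂
    have hpC : (t₁ : ℂ) * t₂ = (q : ℂ) ^ 2 + 1 := by exact_mod_cast congrArg (Nat.cast (R := ℂ)) hprod
    have hsC : (t₁ : ℂ) + t₂ = 2 * q + 2 := by rw [c₁', c₂']; ring
    push_cast [hcast, mul_pow, ← Finset.mul_sum] at hs
    have : ((q : ℂ) - 1) ^ 2 * ((∑ χ ∈ R, e χ ^ 2 : ℕ) : ℂ) = ((q : ℂ) - 1) ^ 2 * q := by
      push_cast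
      linear_combination hs - (((q : ℂ) ^ 2 + 1) ^ 2 / 2) * cardP
        - (((q : ℂ) - 1) ^ 2 * (t₂ : ℂ) ^ 2 / 4) * k₁ - (((q : ℂ) - 1) ^ 2 * (t₁ : ℂ) ^ 2 / 4) * k₂
        - (((q : ℂ) - 1) ^ 2 / 4) * ((t₁ : ℂ) + t₂ + 2) * hpC
        + (((q : ℂ) - 1) ^ 2 / 4) * ((t₁ : ℂ) + t₂ + 2 * q + 2 - ((q : ℂ) ^ 2 + 1)) * hsC
    have hne : ((q : ℂ) - 1) ^ 2 ≠ 0 :=
      pow_ne_zero _ (sub_ne_zero.mpr (by exact_mod_cast (by omega : q ≠ 1)))
    exact_mod_cast mul_left_cancel₀ hne this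
  obtain ⟨a, ha₁, ha1⟩ : ∃ a : ↥T₁, (a : ↥(Cfsg.Sz F m)) = x₁ ∧ a ≠ 1 := by
    have hm : x₁ ∈ T₁ := eT₁ ▸ Subgroup.mem_centralizer_singleton_iff.mpr rfl
    exact ⟨⟨x₁, hm⟩, rfl, fun e' => fpf_ne_one h hx₁ (congrArg Subtype.val e')⟩
  have hcK : ∀ χ : IrrCharacter ↥(Cfsg.Sz F m), ∃ c K : ℤ, χ ∈ R →
      (χ : ↥(Cfsg.Sz F m) → ℂ) x₁ = (c : ℂ) ∧
      (χ : ↥(Cfsg.Sz F m) → ℂ) 1 = (c : ℂ) + (t₁ : ℂ) * (K : ℂ) := by
    intro χ
    by_cases hχ : χ ∈ R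
    · obtain ⟨c, K, h1, h2⟩ := const_on_torus h hT₁ hn₁ χ (hnotF₁ χ hχ)
      exact ⟨c, K, fun _ => ⟨by rw [← ha₁]; exact h1 a ha1, by rw [ht₁]; exact h2⟩⟩
    · exact ⟨0, 0, fun h' => absurd h' hχ⟩
  choose c K hc using hcK
  have hcsum : ∑ χ ∈ R, c χ ^ 2 = 2 := by
    have hcol := column_orthogonality (G := ↥(Cfsg.Sz F m)) x₁ x₁
    rw [if_pos (IsConj.refl _), hsplit, ← eT₁, ← ht₁] at hcol
    have eP : ∑ χ ∈ P, (χ : ↥(Cfsg.Sz F m) → ℂ) x₁ * conj ((χ : ↥(Cfsg.Sz F m) → ℂ) x₁) = 0 :=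
      Finset.sum_eq_zero fun b hb => by
        rw [hP] at hb
        obtain ⟨-, lam, rfl⟩ := Finset.mem_filter.mp hb
        show pSer h lam.1 x₁ * _ = 0
        rw [pSer_fpf h _ hx₁, zero_mul]
    have eF₁ : ∑ χ ∈ F₁, (χ : ↥(Cfsg.Sz F m) → ℂ) x₁ * conj ((χ : ↥(Cfsg.Sz F m) → ℂ) x₁) =
        (t₁ : ℂ) - 4 := by
      rw [hF₁, ← ha₁, family_column h hT₁ hn₁ ha1, ht₁]
    have eF₂ : ∑ χ ∈ F₂, (χ : ↥(Cfsg.Sz F m) → ℂ) x₁ * conj ((χ : ↥(Cfsg.Sz F m) → ℂ) x₁) = 0 :=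
      Finset.sum_eq_zero fun b hb => by
        obtain ⟨lam, rfl⟩ := (mem_family h hT₂).mp (hF₂ ▸ hb)
        show phi h hT₂ _ lam.1 x₁ * _ = 0
        rw [phi_coprime h hT₂ _ _ hx₁, zero_mul]
        rw [← ht₂]
        refine Nat.Coprime.coprime_dvd_left ?_ hco₁₂
        rw [ht₁, ← ha₁, Subgroup.orderOf_coe]
        exact orderOf_dvd_natCard a
    rw [eP, eF₁, eF₂, hone, hst, steinberg, Pi.sub_apply, pSer_fpf h _ hx₁] at hcol
    simp only [map_sub, map_zero, map_one] at hcol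
    rw [Finset.sum_congr (s₁ := R) rfl fun b hb => by rw [(hc b hb).1, map_intCast]] at hcol
    have : ((∑ χ ∈ R, c χ ^ 2 : ℤ) : ℂ) = ((2 : ℤ) : ℂ) := by
      push_cast
      simp only [sq]
      linear_combination hcol
    exact_mod_cast this
  have hcne : ∀ χ ∈ R, c χ ≠ 0 := by
    intro χ hχ h0
    obtain ⟨-, h2⟩ := hc χ hχ
    rw [h0, Int.cast_zero, zero_add, he χ hχ] at h2
    have h3 : (((q - 1) * e χ : ℕ) : ℤ) = (t₁ : ℤ) * K χ := by exact_mod_cast h2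
    have h4 : t₁ ∣ e χ := hco.dvd_of_dvd_mul_left (Int.natCast_dvd_natCast.mp ⟨K χ, h3⟩)
    have h5 : e χ ^ 2 ≤ q := hesum ▸ Finset.single_le_sum (f := fun b => e b ^ 2)
      (fun b _ => Nat.zero_le _) hχ
    have h6 : e χ ≠ 0 := fun e0 => χ.2.apply_one_ne_zero (by rw [he χ hχ, e0, mul_zero, Nat.cast_zero])
    have h7 := Nat.le_of_dvd (Nat.pos_of_ne_zero h6) h4
    have h9 : e χ ≤ e χ ^ 2 := Nat.le_self_pow two_ne_zero _
    omega
  have hcard : R.card ≤ 2 := by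
    have h1 : ∀ χ ∈ R, (1 : ℤ) ≤ c χ ^ 2 := fun χ hχ => by
      have := pow_two_pos_of_ne_zero (hcne χ hχ)
      omega
    have h2 := Finset.card_nsmul_le_sum R (fun χ => c χ ^ 2) 1 h1
    rw [hcsum, nsmul_eq_mul, mul_one] at h2
    exact_mod_cast h2
  obtain ⟨u, v, huv, hR2, hu, hv⟩ : ∃ u v, u ≠ v ∧ R = {u, v} ∧ e u = M ∧ e v = M := by
    have hqm : q = 2 ^ (2 * m + 1) := hq.trans h.card
    rcases Nat.lt_or_ge R.card 2 with hlt | hge
    · exfalso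
      haveI : Nonempty (IrrCharacter ↥(Cfsg.Sz F m)) := ⟨one⟩
      obtain ⟨w, hw⟩ : ∃ w : ℕ, w ^ 2 = q := by
        rcases Finset.card_le_one_iff_subset_singleton.mp (Nat.le_of_lt_succ hlt) with ⟨w, hw⟩
        rcases Finset.subset_singleton_iff.mp hw with h0 | h0
        · rw [h0, Finset.sum_empty] at hesum; omega
        · rw [h0, Finset.sum_singleton] at hesum; exact ⟨_, hesum⟩
      have := (two_squares m w 0 (by rw [← hqm, ← hw]; ring)).2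
      exact absurd this (by positivity)
    · obtain ⟨u, v, huv, rfl⟩ := Finset.card_eq_two.mp (le_antisymm hcard hge)
      rw [Finset.sum_pair huv, hqm] at hesum
      obtain ⟨hu, hv⟩ := two_squares m _ _ hesum
      exact ⟨u, v, huv, rfl, by rw [hu, hM], by rw [hv, hM]⟩
  have d_R : ∀ χ ∈ R, (χ : ↥(Cfsg.Sz F m) → ℂ) 1 = ((2 ^ m * (q - 1) : ℕ) : ℂ) := by
    intro χ hχ
    rw [he χ hχ, ← hM, mul_comm M]
    rw [hR2] at hχ
    rcases Finset.mem_insert.mp hχ with rfl | h'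
    · rw [hu]
    · rw [Finset.mem_singleton.mp h', hv]
  have hnot₂ : ∀ χ ∈ R, ∀ lam, phiIrr h hT₂ hn₂ lam ≠ χ := by
    intro χ hχ lam e
    rw [hR] at hχ
    exact (Finset.mem_sdiff.mp hχ).2 (Finset.mem_union_right _ (Finset.mem_union_right _
      (hF₂ ▸ (mem_family h hT₂).mpr ⟨lam, e⟩)))
  have hsum : t₁ + t₂ = 2 * q + 2 := by omega
  exact ⟨{
    T := T₁, T' := T₂, hT := hT₁, hT' := hT₂, n := (M : ℤ) - 1, n' := (M : ℤ) + 1
    hn := hn₁, hn' := hn₂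
    eT := by rw [he₁, ht₂]
    eT' := by rw [he₂, ht₁]
    coprime := by rw [← ht₁, ← ht₂]; exact hco₁₂
    coprime_sub := by rw [← ht₁, ← hq]; exact hco
    coprime_sub' := by rw [← ht₂, ← hq]; exact hco₂
    mul_eq := by rw [← ht₁, ← ht₂, ← hq]; exact hprod
    add_eq := by rw [← ht₁, ← ht₂, ← hq]; exact hsum
    five_le := by rw [eT₁]; exact (torus_data h hx₁).2.2.2.1
    five_le' := by rw [eT₂]; exact (torus_data h hx₂).2.2.2.1
    cover := by rw [eT₁, eT₂]; exact hcover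
    u := u, v := v
    deg_u := by rw [← hq]; exact d_R u (by rw [hR2]; simp)
    deg_v := by rw [← hq]; exact d_R v (by rw [hR2]; simp)
    vanish_u := hvanish u (by rw [hR2]; simp)
    vanish_v := hvanish v (by rw [hR2]; simp)
    notMem := fun lam => ⟨hnotF₁ u (by rw [hR2]; simp) lam, hnotF₁ v (by rw [hR2]; simp) lam⟩
    notMem' := fun lam => ⟨hnot₂ u (by rw [hR2]; simp) lam, hnot₂ v (by rw [hR2]; simp) lam⟩
    split := fun g => by
      rw [hsplit g, hR2, Finset.sum_pair huv, hone', hst', hF₁, hF₂,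
        show P = pFam h by rw [hP]; ext; simp [pFam]] }⟩

theorem card_pFam [Fintype ↥(Cfsg.Sz F m)] :
    2 * ((pFam h).card : ℂ) = (Fintype.card F : ℂ) - 2 := by
  classical
  haveI := finite_units_dual h
  haveI := Fintype.ofFinite (Fˣ →* ℂˣ)
  have e := sum_pIrr h (fun _ => 1)
  simp only [Finset.sum_const, Finset.card_univ, nsmul_eq_mul, mul_one] at e
  have h8 := card_F_ge h
  rw [show pFam h = Finset.univ.filter (fun χ => ∃ lam, pIrr h lam = χ) from by ext; simp [pFam], ← e,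
    Fintype.card_subtype_compl, Fintype.card_subtype_eq, ← Nat.card_eq_fintype_card,
    card_units_dual h, Nat.cast_sub (by omega), Nat.cast_sub (by omega), Nat.cast_one]
  ring

/-- The degrees of the irreducible characters. -/
theorem degrees [Fintype ↥(Cfsg.Sz F m)] :
    ∃ t t' : ℕ, t * t' = Fintype.card F ^ 2 + 1 ∧
      (∀ χ : IrrCharacter ↥(Cfsg.Sz F m), ∃ d : ℕ, (χ : ↥(Cfsg.Sz F m) → ℂ) 1 = (d : ℂ) ∧
        d ∈ [1, Fintype.card F ^ 2, Fintype.card F ^ 2 + 1, (Fintype.card F - 1) * t,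
          (Fintype.card F - 1) * t', 2 ^ m * (Fintype.card F - 1)]) ∧
      ∀ d ∈ [Fintype.card F ^ 2, Fintype.card F ^ 2 + 1, (Fintype.card F - 1) * t,
          (Fintype.card F - 1) * t', 2 ^ m * (Fintype.card F - 1)],
        ∃ χ : IrrCharacter ↥(Cfsg.Sz F m), (χ : ↥(Cfsg.Sz F m) → ℂ) 1 = (d : ℂ) := by
  classical
  obtain ⟨D⟩ := exists_table h
  have hc : ((Fintype.card F - 1 : ℕ) : ℂ) = (Fintype.card F : ℂ) - 1 := by
    rw [Nat.cast_sub Fintype.card_pos, Nat.cast_one]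
  have d_st : (stIrr h : ↥(Cfsg.Sz F m) → ℂ) 1 = ((Fintype.card F ^ 2 : ℕ) : ℂ) := by
    rw [show (stIrr h : ↥(Cfsg.Sz F m) → ℂ) 1 = steinberg h 1 from rfl, steinberg_one h]
    push_cast; rfl
  have d_P : ∀ χ ∈ pFam h, (χ : ↥(Cfsg.Sz F m) → ℂ) 1 = ((Fintype.card F ^ 2 + 1 : ℕ) : ℂ) := by
    intro χ hχ
    obtain ⟨-, lam, rfl⟩ := Finset.mem_filter.mp hχ
    show pSer h lam.1 1 = _
    rw [pSer_one h]; push_cast; rfl
  have d_F : ∀ χ ∈ family h D.hT D.hn, (χ : ↥(Cfsg.Sz F m) → ℂ) 1 =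
      (((Fintype.card F - 1) * Nat.card ↥D.T' : ℕ) : ℂ) := by
    intro χ hχ
    obtain ⟨lam, rfl⟩ := (mem_family h D.hT).mp hχ
    show phi h D.hT _ lam.1 1 = _
    rw [phi_one h D.hT D.hn, D.eT, Nat.cast_mul, hc]
  have d_F' : ∀ χ ∈ family h D.hT' D.hn', (χ : ↥(Cfsg.Sz F m) → ℂ) 1 =
      (((Fintype.card F - 1) * Nat.card ↥D.T : ℕ) : ℂ) := by
    intro χ hχ
    obtain ⟨lam, rfl⟩ := (mem_family h D.hT').mp hχ
    show phi h D.hT' _ lam.1 1 = _
    rw [phi_one h D.hT' D.hn', D.eT', Nat.cast_mul, hc]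
  refine ⟨Nat.card ↥D.T, Nat.card ↥D.T', D.mul_eq, fun χ => ?_, fun d hd => ?_⟩
  · by_contra hnot
    push Not at hnot
    have hd : ∀ (ψ : IrrCharacter ↥(Cfsg.Sz F m)) (d : ℕ), (ψ : ↥(Cfsg.Sz F m) → ℂ) 1 = (d : ℂ) →
        d ∈ [1, Fintype.card F ^ 2, Fintype.card F ^ 2 + 1, (Fintype.card F - 1) * Nat.card ↥D.T,
          (Fintype.card F - 1) * Nat.card ↥D.T', 2 ^ m * (Fintype.card F - 1)] →
        (if ψ = χ then (1 : ℂ) else 0) = 0 :=
      fun ψ d hψ hmem => if_neg fun e => by subst e; exact hnot d hψ hmem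
    have e := D.split fun ψ => if ψ = χ then (1 : ℂ) else 0
    rw [Finset.sum_ite_eq', if_pos (Finset.mem_univ _),
      hd (oneIrr h) 1 (by rw [Nat.cast_one]; rfl) (by simp), hd (stIrr h) _ d_st (by simp),
      Finset.sum_eq_zero fun ψ hψ => hd ψ _ (d_P ψ hψ) (by simp),
      Finset.sum_eq_zero fun ψ hψ => hd ψ _ (d_F ψ hψ) (by simp),
      Finset.sum_eq_zero fun ψ hψ => hd ψ _ (d_F' ψ hψ) (by simp),
      hd D.u _ D.deg_u (by simp), hd D.v _ D.deg_v (by simp)] at e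
    norm_num at e
  · simp only [List.mem_cons, List.not_mem_nil, or_false] at hd
    have hPne : (pFam h).Nonempty := by
      rw [Finset.nonempty_iff_ne_empty]
      intro h0
      have cardP := card_pFam h
      rw [h0, Finset.card_empty, Nat.cast_zero, mul_zero] at cardP
      have : (Fintype.card F : ℂ) = ((2 : ℕ) : ℂ) := by push_cast; linear_combination -cardP
      have := Nat.cast_injective this
      have := card_F_ge h
      omega
    have hfam : ∀ {T : Subgroup ↥(Cfsg.Sz F m)} (hT : Torus h T) {n : ℤ}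
        (hn : Matches h hT n), 1 < Nat.card ↥T → (family h hT hn).Nonempty := by
      intro T hT n hn hgt
      rw [Finset.nonempty_iff_ne_empty]
      intro h0
      have e0 := card_family h hT hn
      rw [h0, Finset.card_empty, Nat.cast_zero, mul_zero] at e0
      have : (Nat.card ↥T : ℂ) = ((1 : ℕ) : ℂ) := by push_cast; linear_combination -e0
      have := Nat.cast_injective this
      omega
    have := D.five_le
    have := D.five_le'
    rcases hd with rfl | rfl | rfl | rfl | rfl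
    · exact ⟨stIrr h, d_st⟩
    · obtain ⟨χ, hχ⟩ := hPne; exact ⟨χ, d_P χ hχ⟩
    · obtain ⟨χ, hχ⟩ := hfam D.hT' D.hn' (by omega); exact ⟨χ, d_F' χ hχ⟩
    · obtain ⟨χ, hχ⟩ := hfam D.hT D.hn (by omega); exact ⟨χ, d_F χ hχ⟩
    · exact ⟨D.u, D.deg_u⟩

end Cfsg.Lib.SuzChar
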