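import Cfsg.Agent.Lib.Spec.SuzukiChar.Borel
import Cfsg.Agent.Lib.Char.SignedIrr
import Cfsg.Agent.Lib.Char.Linear

/-!
# The characters of a Suzuki group attached to a torus without fixed points

For a torus `T` of order `t`, with `t t' = q² + 1`, and a nontrivial linear character `λ` of `T`,
the difference of `Ind_U (ψ)` and `Ind_T λ` is irreducible of degree `(q - 1) t'`.
-/

set_option autoImplicit false
set_option linter.unusedSectionVars false

namespace Cfsg.Lib.SuzChar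

open Cfsg Cfsg.Lib.Char Cfsg.Lib.Linear.Suz
open scoped ComplexConjugate

variable {F : Type*} [Field F] [Fintype F] [DecidableEq F] {m : ℕ} (h : Params F m)
include h

/-- A torus without fixed points, self-centralising and of index four in its normaliser. -/
structure Torus (T : Subgroup ↥(Cfsg.Sz F m)) : Prop where
  fpf : ∀ a ∈ T, a ≠ 1 → Fpf h a
  cent : ∀ a ∈ T, a ≠ 1 → Subgroup.centralizer ({a} : Set ↥(Cfsg.Sz F m)) = T
  card_norm : Nat.card ↥(Subgroup.normalizer (T : Set ↥(Cfsg.Sz F m))) = 4 * Nat.card ↥T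

theorem torus_of_fpf {x : ↥(Cfsg.Sz F m)} (hx : Fpf h x)
    (hN : Nat.card ↥(Subgroup.normalizer
        (Subgroup.centralizer ({x} : Set ↥(Cfsg.Sz F m)) : Set ↥(Cfsg.Sz F m))) =
      4 * Nat.card ↥(Subgroup.centralizer ({x} : Set ↥(Cfsg.Sz F m)))) :
    Torus h (Subgroup.centralizer ({x} : Set ↥(Cfsg.Sz F m))) :=
  ⟨fun a ha ha1 => ((torus_data h hx).2.1 a ha ha1).1,
    fun a ha ha1 => ((torus_data h hx).2.1 a ha ha1).2, hN⟩

variable {T : Subgroup ↥(Cfsg.Sz F m)} (hT : Torus h T)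
include hT

theorem Torus.comm (a b : ↥T) : a * b = b * a := by
  by_cases ha : (a : ↥(Cfsg.Sz F m)) = 1
  · rw [show a = 1 from Subtype.ext ha, one_mul, mul_one]
  · have hb : (b : ↥(Cfsg.Sz F m)) ∈ Subgroup.centralizer ({(a : ↥(Cfsg.Sz F m))} : Set _) := by
      rw [hT.cent a a.2 ha]; exact b.2
    exact Subtype.ext (Subgroup.mem_centralizer_singleton_iff.mp hb).symm

theorem Torus.le_norm : T ≤ Subgroup.normalizer (T : Set ↥(Cfsg.Sz F m)) := Subgroup.le_normalizer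

theorem Torus.mem_norm_of_conj {x a : ↥(Cfsg.Sz F m)} (ha : a ∈ T) (ha1 : a ≠ 1)
    (hx : x⁻¹ * a * x ∈ T) : x ∈ Subgroup.normalizer (T : Set ↥(Cfsg.Sz F m)) := by
  have hne : x⁻¹ * a * x ≠ 1 := fun e => ha1 (by
    rwa [mul_eq_one_iff_eq_inv, inv_mul_eq_iff_eq_mul, mul_inv_cancel] at e)
  have e := hT.cent _ hx hne
  rw [show x⁻¹ * a * x = x⁻¹ * a * x⁻¹⁻¹ by rw [inv_inv], conj_centralizer h, hT.cent a ha ha1] at e
  refine inv_mem_iff.mp (Subgroup.mem_normalizer_fintype fun n hn => ?_)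
  rw [SetLike.mem_coe, ← e]
  exact ⟨n, hn, rfl⟩

/-- The action of the normaliser on the torus. -/
def conjT (_hT : Torus h T) (x : ↥(Subgroup.normalizer (T : Set ↥(Cfsg.Sz F m)))) : ↥T →* ↥T :=
  MonoidHom.mk' (fun a => ⟨(x : ↥(Cfsg.Sz F m))⁻¹ * a * x,
    (Subgroup.mem_normalizer_iff'.mp x.2 _).mpr (by simp [mul_assoc])⟩) fun a b =>
    Subtype.ext (by simp only [Subgroup.coe_mul]; group)

theorem conjT_coe (x : ↥(Subgroup.normalizer (T : Set ↥(Cfsg.Sz F m)))) (a : ↥T) :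
    ((conjT h hT x a : ↥T) : ↥(Cfsg.Sz F m)) = (x : ↥(Cfsg.Sz F m))⁻¹ * a * x := rfl

theorem conjT_injective (x : ↥(Subgroup.normalizer (T : Set ↥(Cfsg.Sz F m)))) :
    Function.Injective (conjT h hT x) := fun a b e => by
  have := congrArg (fun z : ↥T => (z : ↥(Cfsg.Sz F m))) e
  simp only [conjT_coe, mul_left_inj, mul_right_inj] at this
  exact Subtype.ext this

theorem conjT_eq_iff {a : ↥T} (ha : a ≠ 1) (x y : ↥(Subgroup.normalizer (T : Set ↥(Cfsg.Sz F m)))) :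
    conjT h hT x a = conjT h hT y a ↔ (y : ↥(Cfsg.Sz F m)) * (x : ↥(Cfsg.Sz F m))⁻¹ ∈ T := by
  rw [Subtype.ext_iff, conjT_coe, conjT_coe]
  have hcent := hT.cent a a.2 fun e => ha (Subtype.ext e)
  rw [show ((y : ↥(Cfsg.Sz F m)) * (x : ↥(Cfsg.Sz F m))⁻¹ ∈ T) ↔
    (y : ↥(Cfsg.Sz F m)) * (x : ↥(Cfsg.Sz F m))⁻¹ ∈ Subgroup.centralizer {(a : ↥(Cfsg.Sz F m))} by rw [hcent],
    Subgroup.mem_centralizer_singleton_iff]
  constructor <;> intro e
  · calc (y : ↥(Cfsg.Sz F m)) * (x : ↥(Cfsg.Sz F m))⁻¹ * a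
        = y * ((x : ↥(Cfsg.Sz F m))⁻¹ * a * x) * (x : ↥(Cfsg.Sz F m))⁻¹ := by group
      _ = a * (y * (x : ↥(Cfsg.Sz F m))⁻¹) := by rw [e]; group
  · calc (x : ↥(Cfsg.Sz F m))⁻¹ * a * x
        = (y : ↥(Cfsg.Sz F m))⁻¹ * (y * (x : ↥(Cfsg.Sz F m))⁻¹ * a) * x := by group
      _ = (y : ↥(Cfsg.Sz F m))⁻¹ * a * y := by rw [e]; group

theorem fix_iff {lam : ↥T →* ℂˣ} (hlam : lam ≠ 1)
    (x : ↥(Subgroup.normalizer (T : Set ↥(Cfsg.Sz F m)))) :
    lam.comp (conjT h hT x) = lam ↔ (x : ↥(Cfsg.Sz F m)) ∈ T := by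
  constructor
  · intro e
    by_contra hx
    let f : ↥T → ↥T := fun a => conjT h hT x a * a⁻¹
    have hinj : Function.Injective f := by
      intro a b eab
      have e1 : conjT h hT x (b⁻¹ * a) = b⁻¹ * a := by
        rw [map_mul, map_inv]
        have eab' : conjT h hT x a * a⁻¹ = conjT h hT x b * b⁻¹ := eab
        rw [mul_inv_eq_iff_eq_mul] at eab'
        rw [eab', mul_assoc, inv_mul_cancel_left]
      by_contra hab
      have hne : b⁻¹ * a ≠ 1 := fun e' => hab (inv_mul_eq_one.mp e').symm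
      refine hx ?_
      have h1 : conjT h hT x (b⁻¹ * a) = conjT h hT 1 (b⁻¹ * a) := by
        rw [e1]
        exact Subtype.ext (by rw [conjT_coe]; simp)
      have := (conjT_eq_iff h hT hne x 1).mp h1
      simpa using this
    refine hlam (MonoidHom.ext fun c => ?_)
    obtain ⟨a, rfl⟩ := (Finite.injective_iff_surjective.mp hinj) c
    have := DFunLike.congr_fun e a
    simp only [MonoidHom.comp_apply] at this
    show lam (conjT h hT x a * a⁻¹) = 1
    rw [map_mul, map_inv, this, mul_inv_cancel]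
  · intro hx
    refine MonoidHom.ext fun a => ?_
    rw [MonoidHom.comp_apply]
    congr 1
    refine Subtype.ext ?_
    rw [conjT_coe]
    have := congrArg Subtype.val (hT.comm h ⟨x, hx⟩ a)
    simp only [Subgroup.coe_mul] at this
    rw [mul_assoc, ← this, inv_mul_cancel_left]

theorem comp_conjT_ne_one {lam : ↥T →* ℂˣ} (hlam : lam ≠ 1)
    (x : ↥(Subgroup.normalizer (T : Set ↥(Cfsg.Sz F m)))) : lam.comp (conjT h hT x) ≠ 1 := by
  intro e
  refine hlam (MonoidHom.ext fun c => ?_)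
  obtain ⟨a, rfl⟩ := (Finite.injective_iff_surjective.mp (conjT_injective h hT x)) c
  exact DFunLike.congr_fun e a

theorem card_dual : Nat.card (↥T →* ℂˣ) = Nat.card ↥T := by
  letI : CommGroup ↥T := { (inferInstance : Group ↥T) with mul_comm := hT.comm h }
  exact card_monoidHom_units ↥T

theorem finite_dual : Finite (↥T →* ℂˣ) :=
  Nat.finite_of_card_ne_zero (by rw [card_dual h hT]; exact Nat.card_pos.ne')

theorem sum_dual [Fintype (↥T →* ℂˣ)] [Decidable ((1 : ℂ) = 0)] (a : ↥T) [Decidable (a = 1)] :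
    ∑ lam : ↥T →* ℂˣ, ((lam a : ℂˣ) : ℂ) = if a = 1 then (Nat.card ↥T : ℂ) else 0 := by
  split_ifs with ha
  · subst ha
    simp [← card_dual h hT, Nat.card_eq_fintype_card]
  · letI : CommGroup ↥T := { (inferInstance : Group ↥T) with mul_comm := hT.comm h }
    obtain ⟨φ, hφ⟩ := CommGroup.exists_apply_ne_one_of_hasEnoughRootsOfUnity ↥T ℂ ha
    have e : ∑ lam : ↥T →* ℂˣ, ((lam a : ℂˣ) : ℂ) =
        (φ a : ℂ) * ∑ lam : ↥T →* ℂˣ, ((lam a : ℂˣ) : ℂ) := by
      rw [Finset.mul_sum]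
      refine (Fintype.sum_equiv (Equiv.mulLeft φ) _ _ fun lam => ?_).symm
      simp
    by_contra hS
    exact hφ (Units.ext ((mul_eq_right₀ hS).mp e.symm))

/-- The character induced from a linear character of the torus. -/
noncomputable def torusInd [Fintype ↥(Cfsg.Sz F m)] (_hT : Torus h T) (lam : ↥T →* ℂˣ) :
    ↥(Cfsg.Sz F m) → ℂ :=
  indFun T (fun a => ((lam a : ℂˣ) : ℂ))

open Classical in
theorem torusInd_apply [Fintype ↥(Cfsg.Sz F m)] (lam : ↥T →* ℂˣ) (a : ↥T) :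
    torusInd h hT lam a =
      (Nat.card ↥T : ℂ)⁻¹ * ∑ x : ↥(Subgroup.normalizer (T : Set ↥(Cfsg.Sz F m))),
        ((lam (conjT h hT x a) : ℂˣ) : ℂ) +
      (if a = 1 then (T.index : ℂ) - 4 else 0) := by
  by_cases ha : a = 1
  · subst ha
    rw [torusInd, OneMemClass.coe_one, indFun_apply_one, if_pos rfl]
    simp only [map_one, Units.val_one, Finset.sum_const, Finset.card_univ, nsmul_eq_mul, mul_one,
      ← Nat.card_eq_fintype_card, hT.card_norm, Nat.cast_mul]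
    have : (Nat.card ↥T : ℂ) ≠ 0 := Nat.cast_ne_zero.mpr Nat.card_pos.ne'
    field_simp
    push_cast
    ring
  · rw [if_neg ha, add_zero, torusInd, indFun]
    congr 1
    rw [← Finset.sum_filter_of_ne (p := fun x => x ∈ Subgroup.normalizer (T : Set ↥(Cfsg.Sz F m)))
      (fun x _ hx => ?_), Finset.sum_subtype (p := fun x => x ∈ Subgroup.normalizer (T : Set ↥(Cfsg.Sz F m))) _
      (fun x => by simp)]
    · exact Finset.sum_congr rfl fun x _ => extendByZero_coe T _ (conjT h hT x a)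
    · by_contra hn
      exact hx (extendByZero_of_notMem _ _ fun hm =>
        hn (hT.mem_norm_of_conj h a.2 (fun e => ha (Subtype.ext e)) hm))

theorem index_mul_card_T : (T.index : ℂ) * (Nat.card ↥T : ℂ) = (Fintype.card F : ℂ) ^ 2 *
    ((Fintype.card F : ℂ) ^ 2 + 1) * ((Fintype.card F : ℂ) - 1) := by
  rw [← Nat.cast_mul, T.index_mul_card, card_G h]
  push_cast [Nat.cast_sub (show 1 ≤ Fintype.card F from Fintype.card_pos)]
  ring

open Classical in
theorem torusInd_inner [Fintype ↥(Cfsg.Sz F m)] (lam lam' : ↥T →* ℂˣ) :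
    classInner (torusInd h hT lam) (torusInd h hT lam') =
      ((T.index : ℂ) - 4) / (Nat.card ↥T : ℂ) +
      ((Finset.univ.filter fun x : ↥(Subgroup.normalizer (T : Set ↥(Cfsg.Sz F m))) =>
        lam.comp (conjT h hT x) = lam').card : ℂ) / (Nat.card ↥T : ℂ) := by
  conv_lhs => arg 2; rw [torusInd]
  rw [classInner_indFun_right _ _ (χ := torusInd h hT lam) (isClassFunction_indFun _ _), classInner]
  simp only [torusInd_apply h hT, add_mul, Finset.sum_add_distrib, mul_assoc, Finset.sum_mul,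
    ← Finset.mul_sum]
  rw [Finset.sum_comm]
  have e1 : ∀ x : ↥(Subgroup.normalizer (T : Set ↥(Cfsg.Sz F m))),
      ∑ a : ↥T, ((lam (conjT h hT x a) : ℂˣ) : ℂ) * conj ((lam' a : ℂˣ) : ℂ) =
        if lam.comp (conjT h hT x) = lam' then (Nat.card ↥T : ℂ) else 0 := fun x =>
    sum_hom_mul (lam.comp (conjT h hT x)) lam'
  simp only [e1, ← Finset.sum_filter, Finset.sum_const, nsmul_eq_mul, ite_mul, zero_mul,
    Finset.filter_eq', Finset.mem_univ, if_true, Finset.sum_singleton, map_one, Units.val_one, mul_one]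
  have : (Nat.card ↥T : ℂ) ≠ 0 := Nat.cast_ne_zero.mpr Nat.card_pos.ne'
  field_simp
  ring

theorem bigPsi_fpf [Fintype ↥(Cfsg.Sz F m)] (n : ℤ) {g : ↥(Cfsg.Sz F m)} (hg : Fpf h g) :
    bigPsi h n g = 0 := by
  refine bigPsi_eq_zero h n fun x hx => ?_
  refine not_fpf_of_conjSet h (x := g) (Or.inl ⟨fpf_ne_one h hg, x⁻¹, ?_⟩) hg
  rwa [inv_inv]

theorem bigPsi_torusInd [Fintype ↥(Cfsg.Sz F m)] (n : ℤ) (lam : ↥T →* ℂˣ) :
    classInner (bigPsi h n) (torusInd h hT lam) = bigPsi h n 1 / (Nat.card ↥T : ℂ) := by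
  classical
  haveI := Fintype.ofFinite ↥T
  rw [torusInd, classInner_indFun_right _ _ (bigPsi_virtual h n).isClassFunction, classInner,
    Finset.sum_eq_single (1 : ↥T) (fun a _ ha => by
      rw [bigPsi_fpf h hT n (hT.fpf a a.2 fun e => ha (Subtype.ext e)), zero_mul]) (by simp)]
  simp [div_eq_inv_mul]

/-- The character attached to a linear character of the torus. -/
noncomputable def phi [Fintype ↥(Cfsg.Sz F m)] (hT : Torus h T) (n : ℤ) (lam : ↥T →* ℂˣ) :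
    ↥(Cfsg.Sz F m) → ℂ :=
  bigPsi h n - torusInd h hT lam

theorem phi_virtual [Fintype ↥(Cfsg.Sz F m)] (n : ℤ) (lam : ↥T →* ℂˣ) :
    IsGeneralizedCharacter ↥(Cfsg.Sz F m) (phi h hT n lam) :=
  (bigPsi_virtual h n).sub
    (isCharacter_indFun _ (isIrrCharacter_linear lam).isCharacter).isGeneralized

/-- The numerical hypotheses on `t` and `t'`. -/
def Matches (_hT : Torus h T) (n : ℤ) : Prop :=
  (Nat.card ↥T : ℂ) * (1 + (n : ℂ) * (2 : ℂ) ^ (m + 1)) = (Fintype.card F : ℂ) ^ 2 + 1 ∧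
  (Nat.card ↥T : ℂ) + (1 + (n : ℂ) * (2 : ℂ) ^ (m + 1)) = 2 * (Fintype.card F : ℂ) + 2

open Classical in
theorem phi_inner [Fintype ↥(Cfsg.Sz F m)] {n : ℤ} (hn : Matches h hT n) (lam lam' : ↥T →* ℂˣ) :
    classInner (phi h hT n lam) (phi h hT n lam') =
      ((Finset.univ.filter fun x : ↥(Subgroup.normalizer (T : Set ↥(Cfsg.Sz F m))) =>
        lam.comp (conjT h hT x) = lam').card : ℂ) / (Nat.card ↥T : ℂ) := by
  obtain ⟨h1, h2⟩ := hn
  have ht : (Nat.card ↥T : ℂ) ≠ 0 := Nat.cast_ne_zero.mpr Nat.card_pos.ne'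
  have hq : (Fintype.card F : ℂ) ≠ 0 := Nat.cast_ne_zero.mpr Fintype.card_ne_zero
  have hr : classInner (torusInd h hT lam) (bigPsi h n) = bigPsi h n 1 / (Nat.card ↥T : ℂ) := by
    rw [← classInner_conj_symm, bigPsi_torusInd h hT, map_div₀, Complex.conj_natCast]
    congr 1
    rw [bigPsi_one h]
    simp [map_ofNat]
  simp only [phi, classInner_sub_left, classInner_sub_right, torusInd_inner h hT,
    bigPsi_torusInd h hT, hr, bigPsi_norm h, bigPsi_one h]
  have hidx := index_mul_card_T h hT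
  obtain ⟨c, hc⟩ : ∃ c : ℂ, c = ((Finset.univ.filter
    fun x : ↥(Subgroup.normalizer (T : Set ↥(Cfsg.Sz F m))) =>
      lam.comp (conjT h hT x) = lam').card : ℂ) := ⟨_, rfl⟩
  rw [← hc]
  obtain ⟨I, hI⟩ : ∃ I : ℂ, I = (T.index : ℂ) := ⟨_, rfl⟩
  rw [← hI] at hidx ⊢
  obtain ⟨t, htt⟩ : ∃ t : ℂ, t = (Nat.card ↥T : ℂ) := ⟨_, rfl⟩
  rw [← htt] at hidx h1 h2 ht ⊢
  obtain ⟨e, he⟩ : ∃ e : ℂ, e = 1 + (n : ℂ) * (2 : ℂ) ^ (m + 1) := ⟨_, rfl⟩
  rw [show (n : ℂ) * (2 : ℂ) ^ (m + 1) = e - 1 by rw [he]; ring] at h1 h2 ⊢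
  obtain ⟨q, hq'⟩ : ∃ q : ℂ, q = (Fintype.card F : ℂ) := ⟨_, rfl⟩
  rw [← hq'] at hidx h1 h2 hq ⊢
  have hI' : I = q ^ 2 * (q - 1) * e := mul_right_cancel₀ ht (hidx.trans (by
    linear_combination -(q ^ 2 * (q - 1)) * h1))
  subst hI'
  field_simp
  linear_combination ((1 - q ^ 2) * (q - 1) * e + 2 * q ^ 2 * (q - 1) * e + e - 2 * q) * h1 + (q ^ 2 + q) * h2

theorem phi_one [Fintype ↥(Cfsg.Sz F m)] {n : ℤ} (hn : Matches h hT n) (lam : ↥T →* ℂˣ) :
    phi h hT n lam 1 = ((Fintype.card F : ℂ) - 1) * (1 + (n : ℂ) * (2 : ℂ) ^ (m + 1)) := by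
  obtain ⟨h1, -⟩ := hn
  have ht : (Nat.card ↥T : ℂ) ≠ 0 := Nat.cast_ne_zero.mpr Nat.card_pos.ne'
  rw [phi, Pi.sub_apply, bigPsi_one h, torusInd, indFun_apply_one, map_one, Units.val_one, mul_one]
  refine mul_right_cancel₀ ht ?_
  have := index_mul_card_T h hT
  linear_combination -this + (Fintype.card F : ℂ) ^ 2 * ((Fintype.card F : ℂ) - 1) * h1

theorem phi_irr [Fintype ↥(Cfsg.Sz F m)] {n : ℤ} (hn : Matches h hT n) {lam : ↥T →* ℂˣ}
    (hlam : lam ≠ 1) : IsIrrCharacter ↥(Cfsg.Sz F m) (phi h hT n lam) := by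
  classical
  have h1 : classInner (phi h hT n lam) (phi h hT n lam) = 1 := by
    rw [phi_inner h hT hn]
    simp only [fix_iff h hT hlam]
    rw [← Fintype.card_subtype, ← Nat.card_eq_fintype_card]
    change ((Nat.card ↥(T.subgroupOf (Subgroup.normalizer (T : Set ↥(Cfsg.Sz F m)))) : ℕ) : ℂ) / _ = 1
    rw [Nat.card_congr (Subgroup.subgroupOfEquivOfLe (hT.le_norm h)).toEquiv,
      div_self (Nat.cast_ne_zero.mpr Nat.card_pos.ne')]
  obtain ⟨ε, μ, hε, e⟩ := exists_signed_irr_of_norm_one (phi_virtual h hT n lam) h1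
  rcases hε with rfl | rfl
  · rw [e]; simpa using μ.2
  · exfalso
    obtain ⟨d, hd0, hd⟩ := μ.2.exists_degree
    have e1 := congrFun e 1
    rw [phi_one h hT hn, Pi.smul_apply, hd, smul_eq_mul] at e1
    have h8 := card_F_ge h
    obtain ⟨ht1, -⟩ := hn
    have hneg : (((Fintype.card F : ℂ) - 1) * ((Fintype.card F : ℂ) ^ 2 + 1)) =
        -(((Nat.card ↥T * d : ℕ)) : ℂ) := by
      push_cast at e1 ⊢
      linear_combination (Nat.card ↥T : ℂ) * e1 - ((Fintype.card F : ℂ) - 1) * ht1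
    have hpos : ((((Fintype.card F - 1) * (Fintype.card F ^ 2 + 1) + Nat.card ↥T * d : ℕ)) : ℂ) = 0 := by
      push_cast [Nat.cast_sub (show 1 ≤ Fintype.card F by omega)] at hneg ⊢
      linear_combination hneg
    have : 0 < (Fintype.card F - 1) * (Fintype.card F ^ 2 + 1) :=
      Nat.mul_pos (by omega) (Nat.succ_pos _)
    rw [Nat.cast_eq_zero] at hpos
    omega

theorem phi_on_torus [Fintype ↥(Cfsg.Sz F m)]
    [Fintype ↥(Subgroup.normalizer (T : Set ↥(Cfsg.Sz F m)))] (n : ℤ) (lam : ↥T →* ℂˣ) {a : ↥T}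
    (ha : a ≠ 1) :
    phi h hT n lam a = -((Nat.card ↥T : ℂ)⁻¹ *
      ∑ x : ↥(Subgroup.normalizer (T : Set ↥(Cfsg.Sz F m))), ((lam (conjT h hT x a) : ℂˣ) : ℂ)) := by
  classical
  rw [phi, Pi.sub_apply, bigPsi_fpf h hT n (hT.fpf a a.2 fun e => ha (Subtype.ext e)),
    torusInd_apply h hT, if_neg ha, add_zero, zero_sub]
  congr 2
  exact Finset.sum_congr (by ext; simp) fun x _ => rfl

theorem phi_dS [Fintype ↥(Cfsg.Sz F m)] (n : ℤ) (lam : ↥T →* ℂˣ) {k : Fˣ} (hk : k ≠ 1) :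
    phi h hT n lam (dS h k) = 0 := by
  have hne : dS h k ≠ 1 := fun e => hk (dS_injective h (e.trans (map_one _).symm))
  rw [phi, Pi.sub_apply, bigPsi_eq_zero h n (dS_notMem_US h hk), zero_sub, neg_eq_zero, torusInd]
  refine indFun_eq_zero _ _ fun x hx => ?_
  by_cases h1 : x⁻¹ * dS h k * x = 1
  · rw [mul_eq_one_iff_eq_inv, inv_mul_eq_iff_eq_mul, mul_inv_cancel] at h1
    exact hne h1
  · have := fpf_conj h (hT.fpf _ hx h1) x
    rw [show x * (x⁻¹ * dS h k * x) * x⁻¹ = dS h k by group] at this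
    exact not_fpf_of_conjSet h (Or.inr ⟨hne, 1, by simp⟩) this

theorem phi_coprime [Fintype ↥(Cfsg.Sz F m)] (n : ℤ) (lam : ↥T →* ℂˣ) {g : ↥(Cfsg.Sz F m)}
    (hg : Fpf h g) (hco : (orderOf g).Coprime (Nat.card ↥T)) : phi h hT n lam g = 0 := by
  rw [phi, Pi.sub_apply, bigPsi_fpf h hT n hg, zero_sub, neg_eq_zero, torusInd]
  refine indFun_eq_zero _ _ fun x hx => fpf_ne_one h hg ?_
  have h1 := Subgroup.orderOf_dvd_natCard T hx
  rw [show x⁻¹ * g * x = MulAut.conj x⁻¹ g by simp [mul_assoc],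
    MulEquiv.orderOf_eq] at h1
  exact orderOf_eq_one_iff.mp (Nat.eq_one_of_dvd_coprimes hco dvd_rfl h1)

/-- The irreducible character attached to `λ`. -/
noncomputable def phiIrr [Fintype ↥(Cfsg.Sz F m)] (hT : Torus h T) {n : ℤ} (hn : Matches h hT n)
    (lam : {lam : ↥T →* ℂˣ // lam ≠ 1}) : IrrCharacter ↥(Cfsg.Sz F m) :=
  ⟨phi h hT n lam, phi_irr h hT hn lam.2⟩

open Classical in
/-- The family of characters attached to the torus. -/
noncomputable def family [Fintype ↥(Cfsg.Sz F m)] (hT : Torus h T) {n : ℤ} (hn : Matches h hT n) :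
    Finset (IrrCharacter ↥(Cfsg.Sz F m)) :=
  Finset.univ.filter fun χ => ∃ lam, phiIrr h hT hn lam = χ

open Classical in
theorem mem_family [Fintype ↥(Cfsg.Sz F m)] {n : ℤ} {hn : Matches h hT n}
    {χ : IrrCharacter ↥(Cfsg.Sz F m)} :
    χ ∈ family h hT hn ↔ ∃ lam, phiIrr h hT hn lam = χ := by
  simp [family]

open Classical in
/-- Each member of the family comes from exactly four linear characters. -/
theorem sum_family [Fintype ↥(Cfsg.Sz F m)] [Fintype {lam : ↥T →* ℂˣ // lam ≠ 1}] {n : ℤ}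
    (hn : Matches h hT n) (g : IrrCharacter ↥(Cfsg.Sz F m) → ℂ) :
    ∑ lam : {lam : ↥T →* ℂˣ // lam ≠ 1}, g (phiIrr h hT hn lam) =
      4 * ∑ χ ∈ family h hT hn, g χ := by
  rw [← Finset.sum_fiberwise_of_maps_to (t := family h hT hn) (g := phiIrr h hT hn)
    (fun lam _ => (mem_family h hT).mpr ⟨lam, rfl⟩), Finset.mul_sum]
  refine Finset.sum_congr rfl fun χ hχ => ?_
  obtain ⟨lam₀, rfl⟩ := (mem_family h hT).mp hχ
  rw [Finset.sum_congr rfl (g := fun _ => g (phiIrr h hT hn lam₀))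
    (fun lam hl => by rw [(Finset.mem_filter.mp hl).2]), Finset.sum_const, nsmul_eq_mul]
  congr 1
  have ht : (Nat.card ↥T : ℂ) ≠ 0 := Nat.cast_ne_zero.mpr Nat.card_pos.ne'
  rw [← Finset.sum_boole]
  have e : ∀ lam : {lam : ↥T →* ℂˣ // lam ≠ 1},
      (if phiIrr h hT hn lam = phiIrr h hT hn lam₀ then (1 : ℂ) else 0) =
        ((Finset.univ.filter fun x : ↥(Subgroup.normalizer (T : Set ↥(Cfsg.Sz F m))) =>
          lam₀.1.comp (conjT h hT x) = lam.1).card : ℂ) / (Nat.card ↥T : ℂ) := by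
    intro lam
    rw [← phi_inner h hT hn, classInner_irr (phi_irr h hT hn lam₀.2) (phi_irr h hT hn lam.2)]
    exact if_congr ⟨fun e => (congrArg Subtype.val e).symm, fun e => Subtype.ext e.symm⟩ rfl rfl
  simp only [e, ← Finset.sum_div, ← Finset.sum_boole, div_eq_iff ht]
  rw [Finset.sum_comm]
  have e2 : ∀ x : ↥(Subgroup.normalizer (T : Set ↥(Cfsg.Sz F m))),
      (∑ lam : {lam : ↥T →* ℂˣ // lam ≠ 1},
        if lam₀.1.comp (conjT h hT x) = lam.1 then (1 : ℂ) else 0) = 1 := fun x => by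
    refine (Finset.sum_eq_single ⟨_, comp_conjT_ne_one h hT lam₀.2 x⟩
      (fun lam _ hl => if_neg fun e' => hl (Subtype.ext e'.symm)) (by simp)).trans (if_pos ?_)
    rfl
  simp only [e2, Finset.sum_const, Finset.card_univ, nsmul_eq_mul, mul_one, ← Nat.card_eq_fintype_card,
    hT.card_norm]
  push_cast
  ring

open Classical in
theorem card_family [Fintype ↥(Cfsg.Sz F m)] {n : ℤ} (hn : Matches h hT n) :
    4 * ((family h hT hn).card : ℂ) = (Nat.card ↥T : ℂ) - 1 := by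
  haveI := finite_dual h hT
  haveI := Fintype.ofFinite (↥T →* ℂˣ)
  have e := sum_family h hT hn (fun _ => 1)
  simp only [Finset.sum_const, Finset.card_univ, nsmul_eq_mul, mul_one] at e
  rw [← e, Fintype.card_subtype_compl, Fintype.card_subtype_eq,
    Nat.cast_sub Fintype.card_pos, ← Nat.card_eq_fintype_card, card_dual h hT, Nat.cast_one]

open Classical in
theorem family_column [Fintype ↥(Cfsg.Sz F m)] {n : ℤ} (hn : Matches h hT n) {a : ↥T}
    (ha : a ≠ 1) :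
    ∑ χ ∈ family h hT hn, (χ : ↥(Cfsg.Sz F m) → ℂ) a * conj ((χ : ↥(Cfsg.Sz F m) → ℂ) a) =
      (Nat.card ↥T : ℂ) - 4 := by
  haveI := finite_dual h hT
  haveI := Fintype.ofFinite (↥T →* ℂˣ)
  have ht : (Nat.card ↥T : ℂ) ≠ 0 := Nat.cast_ne_zero.mpr Nat.card_pos.ne'
  refine mul_left_cancel₀ (show (4 : ℂ) ≠ 0 by norm_num) ?_
  rw [← sum_family h hT hn]
  simp only [phiIrr, phi_on_torus h hT n _ ha, map_neg, map_mul, map_inv₀, Complex.conj_natCast,
    map_sum, neg_mul_neg]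
  obtain ⟨v, hv⟩ : ∃ v : (↥T →* ℂˣ) → ℂ, ∀ lam, v lam =
      ∑ x : ↥(Subgroup.normalizer (T : Set ↥(Cfsg.Sz F m))), ((lam (conjT h hT x a) : ℂˣ) : ℂ) :=
    ⟨_, fun _ => rfl⟩
  simp only [← map_sum, ← hv]
  have hall : ∑ lam : ↥T →* ℂˣ, v lam * conj (v lam) = (4 : ℂ) * (Nat.card ↥T : ℂ) ^ 3 := by
    simp only [hv, map_sum, Finset.sum_mul_sum, conj_units_hom, ← Units.val_mul, ← map_mul]
    rw [Finset.sum_comm]
    simp only [Finset.sum_comm (γ := ↥T →* ℂˣ), sum_dual h hT, mul_inv_eq_one, conjT_eq_iff h hT ha]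
    have e : ∀ x : ↥(Subgroup.normalizer (T : Set ↥(Cfsg.Sz F m))),
        (∑ y : ↥(Subgroup.normalizer (T : Set ↥(Cfsg.Sz F m))),
          if (y : ↥(Cfsg.Sz F m)) * (x : ↥(Cfsg.Sz F m))⁻¹ ∈ T then (Nat.card ↥T : ℂ) else 0) =
            (Nat.card ↥T : ℂ) * (Nat.card ↥T : ℂ) := by
      intro x
      rw [← Fintype.sum_equiv (Equiv.mulRight x) (fun y : ↥(Subgroup.normalizer
          (T : Set ↥(Cfsg.Sz F m))) => if (y : ↥(Cfsg.Sz F m)) ∈ T then (Nat.card ↥T : ℂ) else 0)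
        _ (fun y => by simp), ← Finset.sum_filter, Finset.sum_const, nsmul_eq_mul]
      rw [← Fintype.card_subtype, ← Nat.card_eq_fintype_card]
      change ((Nat.card ↥(T.subgroupOf (Subgroup.normalizer (T : Set ↥(Cfsg.Sz F m)))) : ℕ) : ℂ) * _ = _
      rw [Nat.card_congr (Subgroup.subgroupOfEquivOfLe (hT.le_norm h)).toEquiv]
    simp only [e, Finset.sum_const, Finset.card_univ, nsmul_eq_mul, ← Nat.card_eq_fintype_card,
      hT.card_norm]
    push_cast
    ring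
  have hone : v 1 = 4 * (Nat.card ↥T : ℂ) := by
    simp [hv, ← Nat.card_eq_fintype_card, hT.card_norm]
  have hsub : ∑ lam : {lam : ↥T →* ℂˣ // lam ≠ 1}, v lam * conj (v lam) =
      4 * (Nat.card ↥T : ℂ) ^ 3 - 16 * (Nat.card ↥T : ℂ) ^ 2 := by
    rw [← Finset.sum_subtype (Finset.univ.erase (1 : ↥T →* ℂˣ)) (fun x => by simp)
      (fun lam => v lam * conj (v lam)), Finset.sum_erase_eq_sub (Finset.mem_univ _), hall, hone,
      map_mul, Complex.conj_natCast, map_ofNat]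
    ring
  rw [Finset.sum_congr rfl fun lam _ => mul_mul_mul_comm ((Nat.card ↥T : ℂ)⁻¹) (v lam.1) _ _,
    ← Finset.mul_sum, hsub]
  field_simp
  ring

/-- A character outside the family is an integer constant on the torus. -/
theorem const_on_torus [Fintype ↥(Cfsg.Sz F m)] {n : ℤ} (hn : Matches h hT n)
    (χ : IrrCharacter ↥(Cfsg.Sz F m)) (hχ : ∀ lam, phiIrr h hT hn lam ≠ χ) :
    ∃ c K : ℤ, (∀ a : ↥T, a ≠ 1 → (χ : ↥(Cfsg.Sz F m) → ℂ) a = (c : ℂ)) ∧
      (χ : ↥(Cfsg.Sz F m) → ℂ) 1 = (c : ℂ) + (Nat.card ↥T : ℂ) * (K : ℂ) := by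
  classical
  haveI := finite_dual h hT
  haveI := Fintype.ofFinite (↥T →* ℂˣ)
  haveI := Fintype.ofFinite ↥T
  obtain ⟨K, hK⟩ := χ.2.isGeneralized.exists_int_classInner (bigPsi_virtual h n)
  obtain ⟨M, hM⟩ := (χ.2.isGeneralized.comp T.subtype).exists_int_classInner
    (isIrrCharacter_linear (1 : ↥T →* ℂˣ)).isGeneralized
  obtain ⟨co, hco⟩ : ∃ co : (↥T →* ℂˣ) → ℂ, ∀ lam, co lam =
      classInner (fun a : ↥T => (χ : ↥(Cfsg.Sz F m) → ℂ) a) (fun a => ((lam a : ℂˣ) : ℂ)) :=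
    ⟨_, fun _ => rfl⟩
  have hcoef : ∀ lam, lam ≠ 1 → co lam = (K : ℂ) := by
    intro lam hlam
    have h0 := classInner_irr_ne χ.2 (phi_irr h hT hn hlam)
      (fun e => hχ ⟨lam, hlam⟩ (Subtype.ext e.symm))
    rw [phi, classInner_sub_right, hK, torusInd, classInner_indFun_right _ _
      χ.2.isClassFunction, ← hco, sub_eq_zero] at h0
    exact h0.symm
  have hM' : co 1 = (M : ℂ) := by rw [hco]; exact hM
  have hexp : ∀ a : ↥T, (χ : ↥(Cfsg.Sz F m) → ℂ) a =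
      ∑ lam : ↥T →* ℂˣ, co lam * ((lam a : ℂˣ) : ℂ) := by
    intro a
    simp only [hco, classInner, mul_assoc, Finset.sum_mul, ← Finset.mul_sum]
    rw [Finset.sum_comm]
    simp only [conj_units_hom, ← Units.val_mul, ← map_mul, ← Finset.mul_sum, sum_dual h hT,
      inv_mul_eq_one, mul_ite, mul_zero, Finset.sum_ite_eq', Finset.mem_univ, if_true]
    have : (Nat.card ↥T : ℂ) ≠ 0 := Nat.cast_ne_zero.mpr Nat.card_pos.ne'
    field_simp
  have hsplit : ∀ a : ↥T, (χ : ↥(Cfsg.Sz F m) → ℂ) a =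
      ((M - K : ℤ) : ℂ) + (K : ℂ) * (if a = 1 then (Nat.card ↥T : ℂ) else 0) := by
    intro a
    rw [hexp, ← sum_dual h hT a, Finset.mul_sum, ← Finset.add_sum_erase _ _ (Finset.mem_univ 1),
      ← Finset.add_sum_erase _ _ (Finset.mem_univ (1 : ↥T →* ℂˣ)),
      Finset.sum_congr rfl (fun lam hl => by rw [hcoef lam (Finset.mem_erase.mp hl).1])]
    simp [hM']
    ring
  refine ⟨M - K, K, fun a ha => by rw [hsplit, if_neg ha, mul_zero, add_zero], ?_⟩
  rw [← OneMemClass.coe_one T, hsplit, if_pos rfl, mul_comm]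

end Cfsg.Lib.SuzChar
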