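import Cfsg.Agent.Lib.Linear.Suzuki.Tori
import Cfsg.Agent.Lib.Linear.Suzuki.SubgroupFacts
import Cfsg.Agent.Lib.Char.Induced
import Cfsg.Agent.Lib.Block.CentralDefect
import Cfsg.Agent.Lib.Char.Central

/-!
# Virtual characters of the unipotent subgroup of a Suzuki group

The additive character `y ↦ (-1) ^ T y` of the field, `T` being the absolute trace, gives a linear
character of the Sylow 2-subgroup `U`, and a virtual character of degree `r` supported on the
centre of `U`.
-/

set_option autoImplicit false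
set_option linter.unusedSectionVars false

namespace Cfsg.Lib.SuzChar

open Cfsg Cfsg.Lib.Char Cfsg.Lib.Linear.Suz
open scoped ComplexConjugate

variable {F : Type*} [Field F] [Fintype F] {m : ℕ} (h : Params F m)
include h

/-- The absolute trace, as a sum of powers. -/
def absTr (_h : Params F m) (y : F) : F := ∑ i ∈ Finset.range (2 * m + 1), y ^ (2 ^ i)

theorem absTr_add (x y : F) : absTr h (x + y) = absTr h x + absTr h y := by
  haveI := charP_two h
  simp only [absTr, add_pow_char_pow, Finset.sum_add_distrib]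

theorem absTr_sq (y : F) : absTr h (y ^ 2) = absTr h y := by
  have e1 := Finset.sum_range_succ' (fun i => y ^ (2 ^ i)) (2 * m + 1)
  have e2 := Finset.sum_range_succ (fun i => y ^ (2 ^ i)) (2 * m + 1)
  have e3 : y ^ (2 ^ (2 * m + 1)) = y := by rw [← h.card, FiniteField.pow_card]
  rw [e2, e3, pow_zero, pow_one] at e1
  simp only [absTr]
  rw [add_left_inj] at e1
  rw [e1]
  refine Finset.sum_congr rfl fun i _ => ?_
  rw [← pow_mul, pow_succ']

theorem absTr_sq' (y : F) : absTr h y ^ 2 = absTr h y := by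
  haveI := charP_two h
  conv_rhs => rw [← absTr_sq h y]
  simp only [absTr]
  rw [sum_pow_char 2]
  exact Finset.sum_congr rfl fun i _ => by rw [← pow_mul, ← pow_mul, mul_comm]

theorem absTr_cases (y : F) : absTr h y = 0 ∨ absTr h y = 1 := by
  have e : absTr h y * (absTr h y - 1) = 0 := by linear_combination absTr_sq' h y
  rcases mul_eq_zero.mp e with e | e
  · exact Or.inl e
  · exact Or.inr (sub_eq_zero.mp e)

theorem absTr_one : absTr h (1 : F) = 1 := by
  have h2 := two_eq h
  simp only [absTr, one_pow, Finset.sum_const, Finset.card_range, nsmul_eq_mul, mul_one]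
  push_cast
  linear_combination (m : F) * h2

open Classical in
/-- The additive character. -/
noncomputable def mu (y : F) : ℂˣ := if absTr h y = 0 then 1 else -1

theorem mu_add (x y : F) : mu h (x + y) = mu h x * mu h y := by
  have h11 : (1 : F) + 1 = 0 := add_self h 1
  simp only [mu]
  rw [absTr_add h]
  rcases absTr_cases h x with e | e <;> rcases absTr_cases h y with e' | e' <;>
    simp [e, e', h11]

theorem mu_zero : mu h (0 : F) = 1 := by
  have e := mu_add h 0 0
  rwa [add_zero, left_eq_mul] at e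

theorem mu_one : mu h (1 : F) = -1 := by
  simp [mu, absTr_one h]

theorem mu_sq (y : F) : mu h (y ^ 2) = mu h y := by
  simp only [mu]
  rw [absTr_sq h]

theorem mu_th (y : F) : mu h (th m y) = mu h y := by
  have : ∀ k : ℕ, mu h (y ^ (2 ^ k)) = mu h y := by
    intro k
    induction k with
    | zero => rw [pow_zero, pow_one]
    | succ k ih => rw [pow_succ, pow_mul, mu_sq h, ih]
  exact this (m + 1)

theorem mu_conj (y : F) : conj ((mu h y : ℂˣ) : ℂ) = mu h y := by
  simp only [mu]
  split_ifs <;> simp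

theorem mu_mul_self (y : F) : ((mu h y : ℂˣ) : ℂ) * (mu h y : ℂ) = 1 := by
  simp only [mu]
  split_ifs <;> simp

theorem sum_mu : ∑ x : F, ((mu h x : ℂˣ) : ℂ) = 0 := by
  have e : ∑ x : F, ((mu h x : ℂˣ) : ℂ) = ∑ x : F, ((mu h (x + 1) : ℂˣ) : ℂ) :=
    (Fintype.sum_equiv (Equiv.addRight (1 : F)) (fun x => ((mu h (x + 1) : ℂˣ) : ℂ))
      (fun x => ((mu h x : ℂˣ) : ℂ)) fun x => rfl).symm
  simp only [mu_add h, mu_one h, Units.val_mul, Units.val_neg, Units.val_one, mul_neg, mul_one,
    Finset.sum_neg_distrib] at e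
  linear_combination e / 2

theorem sum_mu_mul {c : F} (hc : c ≠ 0) : ∑ x : F, ((mu h (c * x) : ℂˣ) : ℂ) = 0 := by
  rw [← sum_mu h]
  exact Fintype.sum_equiv (Equiv.mulLeft₀ c hc) _ _ fun x => rfl

theorem sum_units_mu [Fintype Fˣ] {c : F} (hc : c ≠ 0) :
    ∑ k : Fˣ, ((mu h ((k : F) * c) : ℂˣ) : ℂ) = -1 := by
  classical
  have e := sum_mu_mul h hc
  rw [← Finset.sum_erase_add _ _ (Finset.mem_univ (0 : F)), mul_zero, mu_zero h, Units.val_one] at e
  rw [eq_neg_iff_add_eq_zero]
  refine Eq.trans ?_ e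
  congr 1
  refine (Finset.sum_bij (fun (k : Fˣ) _ => (k : F)) (fun k _ => by simp [k.ne_zero])
    (fun a _ b _ e => Units.ext e) (fun x hx => ?_) (fun k _ => by rw [mul_comm]))
  obtain ⟨hx0, -⟩ := Finset.mem_erase.mp hx
  exact ⟨Units.mk0 x hx0, Finset.mem_univ _, rfl⟩

theorem th_bijective : Function.Bijective (th m : F → F) :=
  Finite.injective_iff_bijective.mp (th_injective h)

/-- Only `0` and `1` pair trivially with all elements. -/
theorem exists_mu_comm {a : F} (h0 : a ≠ 0) (h1 : a ≠ 1) :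
    ∃ x : F, mu h (th m a * x + th m x * a) = -1 := by
  obtain ⟨b, hb⟩ := (th_bijective h).2 a
  have hne : th m a + b ≠ 0 := fun e => by
    have eb : b = th m a := by rw [← neg_eq h (th m a)]; linear_combination e
    rw [eb, th_th h] at hb
    have : a * (a - 1) = 0 := by linear_combination hb
    exact (mul_eq_zero.mp this).elim h0 fun e => h1 (sub_eq_zero.mp e)
  refine ⟨(th m a + b)⁻¹, ?_⟩
  rw [mu_add h, ← hb, ← th_mul h, mu_th h, ← mu_add h, hb, mul_comm ((th m a + b)⁻¹) b, ← add_mul,
    mul_inv_cancel₀ hne, mu_one h]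

/-- The coordinates of the unipotent subgroup. -/
noncomputable def uE : F × F ≃ ↥(US h) :=
  Equiv.ofBijective (fun x => (⟨uS h x.1 x.2, x.1, x.2, rfl⟩ : ↥(US h)))
    ⟨fun x y e => Prod.ext (uS_inj h (congrArg Subtype.val e)).1
        (uS_inj h (congrArg Subtype.val e)).2,
      fun ⟨g, a, b, e⟩ => ⟨(a, b), Subtype.ext e.symm⟩⟩

theorem uE_coe (x : F × F) : ((uE h x : ↥(US h)) : ↥(Cfsg.Sz F m)) = uS h x.1 x.2 := rfl

theorem uE_mul (a b a' b' : F) :
    uE h (a, b) * uE h (a', b') = uE h (a + a', b + b' + th m a * a') :=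
  Subtype.ext (by rw [Subgroup.coe_mul, uE_coe, uE_coe, uE_coe, uS_mul h])

theorem uE_zero : uE h (0, 0) = 1 := Subtype.ext (by rw [uE_coe, uS_zero h]; rfl)

/-- The linear character of `U`. -/
noncomputable def muU : ↥(US h) →* ℂˣ :=
  MonoidHom.mk' (fun u => mu h ((uE h).symm u).1) fun u v => by
    obtain ⟨⟨a, b⟩, rfl⟩ := (uE h).surjective u
    obtain ⟨⟨a', b'⟩, rfl⟩ := (uE h).surjective v
    simp only [uE_mul h, Equiv.symm_apply_apply, mu_add h]

theorem muU_uE (a b : F) : muU h (uE h (a, b)) = mu h a := by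
  simp [muU, MonoidHom.mk'_apply]

open Classical in
/-- The function `r μ` on the centre of `U`, extended by zero. -/
noncomputable def theta (u : ↥(US h)) : ℂ :=
  if ((uE h).symm u).1 = 0 then (2 : ℂ) ^ (m + 1) * (mu h ((uE h).symm u).2 : ℂ) else 0

theorem theta_uE (a b : F) [Decidable (a = 0)] :
    theta h (uE h (a, b)) = if a = 0 then (2 : ℂ) ^ (m + 1) * (mu h b : ℂ) else 0 := by
  classical
  simp only [theta, Equiv.symm_apply_apply]

theorem uE_center (b : F) : uE h (0, b) ∈ Subgroup.center ↥(US h) := by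
  refine Subgroup.mem_center_iff.mpr fun u => ?_
  obtain ⟨⟨a', b'⟩, rfl⟩ := (uE h).surjective u
  rw [uE_mul h, uE_mul h, th_zero h]
  simp [add_comm]

theorem uE_conj (a b x : F) :
    uE h (x, 0) * uE h (a, b) * (uE h (x, 0))⁻¹ =
      uE h (0, th m a * x + th m x * a) * uE h (a, b) := by
  rw [mul_inv_eq_iff_eq_mul, uE_mul h, uE_mul h, uE_mul h, th_zero h]
  refine congrArg (uE h) (Prod.ext ?_ ?_)
  · simp [add_comm]
  · simp only [zero_add, zero_mul, add_zero]
    linear_combination -(th m a * x) * two_eq h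

theorem isClassFunction_theta : IsClassFunction ↥(US h) (theta h) := by
  classical
  intro u k
  obtain ⟨⟨a, b⟩, rfl⟩ := (uE h).surjective u
  by_cases ha : a = 0
  · subst ha
    congr 1
    rw [Subgroup.mem_center_iff.mp (uE_center h b) k, mul_inv_cancel_right]
  · obtain ⟨⟨x, y⟩, rfl⟩ := (uE h).surjective k
    obtain ⟨⟨x', y'⟩, hinv⟩ := (uE h).surjective (uE h (x, y))⁻¹
    have e : uE h (x + x', y + y' + th m x * x') = uE h (0, 0) := by
      rw [← uE_mul h, hinv, mul_inv_cancel, uE_zero h]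
    have e1 : x + x' = 0 := congrArg Prod.fst ((uE h).injective e)
    rw [← hinv, uE_mul h, uE_mul h, theta_uE h, theta_uE h, if_neg ha, if_neg]
    intro e'
    exact ha (by linear_combination e' - e1)

theorem card_US_eq : Fintype.card F ^ 2 = Nat.card ↥(US h) := by rw [card_US h, h.card]

theorem theta_virtual [Fintype ↥(US h)] : IsGeneralizedCharacter ↥(US h) (theta h) := by
  classical
  refine isGeneralizedCharacter_iff.mpr ⟨isClassFunction_theta h, fun χ hχ => ?_⟩
  obtain ⟨d, hd0, hd⟩ := hχ.exists_degree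
  obtain ⟨z, hz⟩ : ∃ z : F → ℂ, ∀ b g, χ (uE h (0, b) * g) = z b * χ g := by
    choose c hc using fun b : F =>
      Cfsg.Lib.Block.exists_central_scalar (⟨χ, hχ⟩ : IrrCharacter ↥(US h)) (uE_center h b)
    exact ⟨c, fun b g => (hc b).2 g⟩
  have hzd : ∀ b, χ (uE h (0, b)) = z b * d := fun b => by rw [← hd, ← hz b 1, mul_one]
  have hsum : classInner (theta h) χ = (((Fintype.card F ^ 2 : ℕ) : ℂ))⁻¹ *
      ((2 : ℂ) ^ (m + 1) * d * ∑ b : F, (mu h b : ℂ) * conj (z b)) := by
    rw [classInner, card_US_eq h]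
    congr 1
    rw [← Fintype.sum_equiv (uE h) (fun x => theta h (uE h x) * conj (χ (uE h x))) _ (fun x => rfl),
      Fintype.sum_prod_type, Finset.sum_eq_single (0 : F), Finset.mul_sum]
    · refine Finset.sum_congr rfl fun b _ => ?_
      rw [theta_uE h, if_pos rfl, hzd, map_mul, Complex.conj_natCast]
      ring
    · intro a _ ha
      refine Finset.sum_eq_zero fun b _ => ?_
      rw [theta_uE h, if_neg ha, zero_mul]
    · simp
  by_cases hall : ∀ b, z b = (mu h b : ℂ)
  · refine ⟨1, ?_⟩
    -- `χ` vanishes off the radical of the pairing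
    have hoff : ∀ a b, a ≠ 0 → a ≠ 1 → χ (uE h (a, b)) = 0 := by
      intro a b h0 h1
      obtain ⟨x, hx⟩ := exists_mu_comm h h0 h1
      have e := hχ.isClassFunction (uE h (a, b)) (uE h (x, 0))
      rw [uE_conj h, hz, hall, hx, Units.val_neg, Units.val_one] at e
      linear_combination (-1 / 2 : ℂ) * e
    have hnorm : ∑ x : F × F, χ (uE h x) * conj (χ (uE h x)) = ((Fintype.card F ^ 2 : ℕ) : ℂ) := by
      have e := classInner_irr_self hχ
      rw [classInner, ← card_US_eq h,
        inv_mul_eq_one₀ (Nat.cast_ne_zero.mpr (pow_ne_zero _ Fintype.card_ne_zero))] at e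
      rw [e]
      exact Fintype.sum_equiv (uE h) _ _ fun x => rfl
    obtain ⟨v, hv⟩ : ∃ v : F × F → ℝ, ∀ x, χ (uE h x) * conj (χ (uE h x)) = (v x : ℂ) :=
      ⟨fun x => Complex.normSq (χ (uE h x)), fun x => Complex.mul_conj _⟩
    have hv0 : ∀ x, 0 ≤ v x := fun x => by
      have e := hv x
      rw [Complex.mul_conj] at e
      rw [← Complex.ofReal_inj.mp e]
      exact Complex.normSq_nonneg _
    simp only [hv, ← Complex.ofReal_sum, ← Complex.ofReal_natCast, Complex.ofReal_inj] at hnorm
    have hvle : ∀ x, v x ≤ (d : ℝ) ^ 2 := fun x => by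
      have e := hv x
      rw [Complex.mul_conj, Complex.ofReal_inj, Complex.normSq_eq_norm_sq] at e
      rw [← e]
      have := hχ.isCharacter.norm_le (uE h x)
      rw [hd, Complex.natCast_re] at this
      exact pow_le_pow_left₀ (norm_nonneg _) this 2
    have hvz : ∀ b, v (0, b) = (d : ℝ) ^ 2 := fun b => by
      have e := hv (0, b)
      rw [hzd, hall, map_mul, mu_conj h, Complex.conj_natCast, mul_mul_mul_comm, mu_mul_self h,
        one_mul] at e
      exact_mod_cast (e.symm.trans (by push_cast; ring : (d : ℂ) * d = (((d : ℝ) ^ 2 : ℝ) : ℂ)))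
    rw [Fintype.sum_prod_type] at hnorm
    have hlow : (Fintype.card F : ℝ) * (d : ℝ) ^ 2 ≤ ((Fintype.card F ^ 2 : ℕ) : ℝ) := by
      rw [← hnorm]
      refine le_trans (le_of_eq ?_) (Finset.single_le_sum
        (f := fun a => ∑ b, v (a, b)) (fun a _ => Finset.sum_nonneg fun b _ => hv0 _)
        (Finset.mem_univ (0 : F)))
      simp [hvz]
    have hupp : ((Fintype.card F ^ 2 : ℕ) : ℝ) ≤ 2 * Fintype.card F * (d : ℝ) ^ 2 := by
      rw [← hnorm, ← Finset.sum_subset (Finset.subset_univ ({0, 1} : Finset F)) fun a _ ha => ?_]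
      · rw [Finset.sum_pair zero_ne_one]
        have : ∀ a : F, ∑ b, v (a, b) ≤ Fintype.card F * (d : ℝ) ^ 2 := fun a => by
          refine (Finset.sum_le_sum fun b _ => hvle (a, b)).trans (le_of_eq ?_)
          simp
        linarith [this 0, this 1]
      · simp only [Finset.mem_insert, Finset.mem_singleton, not_or] at ha
        refine Finset.sum_eq_zero fun b _ => ?_
        have e := hv (a, b)
        rw [hoff a b ha.1 ha.2, zero_mul] at e
        exact_mod_cast e.symm
    have h1 : Fintype.card F * d ^ 2 ≤ Fintype.card F ^ 2 := by exact_mod_cast hlow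
    have h2 : Fintype.card F ^ 2 ≤ 2 * Fintype.card F * d ^ 2 := by exact_mod_cast hupp
    obtain ⟨j, -, rfl⟩ := (Nat.dvd_prime_pow Nat.prime_two).mp (show d ∣ 2 ^ ((2 * m + 1) * 2) by
      rw [pow_mul, ← h.card, card_US_eq h]; exact degree_dvd_card hχ hd)
    rw [h.card, ← pow_mul, ← pow_mul, ← pow_add, Nat.pow_le_pow_iff_right one_lt_two] at h1
    rw [h.card, ← pow_mul, ← pow_mul, ← pow_succ', ← pow_add,
      Nat.pow_le_pow_iff_right one_lt_two] at h2
    have hj : j = m := by omega
    rw [hj] at hsum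
    rw [hsum]
    simp only [hall, mu_conj h, mu_mul_self h, Finset.sum_const, Finset.card_univ, nsmul_eq_mul,
      mul_one]
    rw [h.card]
    push_cast
    field_simp
    ring
  · push Not at hall
    obtain ⟨b₀, hb₀⟩ := hall
    refine ⟨0, ?_⟩
    have hz1 : z 0 = 1 := by
      have e := hz 0 1
      rw [uE_zero h, one_mul] at e
      exact (mul_eq_right₀ hχ.apply_one_ne_zero).mp e.symm
    have hzmul : ∀ b b', z (b + b') = z b * z b' := fun b b' => by
      refine mul_right_cancel₀ hχ.apply_one_ne_zero ?_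
      rw [← hz, mul_assoc, ← hz b', ← hz, ← mul_assoc, uE_mul h, th_zero h]
      simp
    have e : ∑ b : F, (mu h b : ℂ) * conj (z b) =
        ((mu h b₀ : ℂ) * conj (z b₀)) * ∑ b : F, (mu h b : ℂ) * conj (z b) := by
      conv_lhs => rw [← Fintype.sum_equiv (Equiv.addLeft b₀)
        (fun b => (mu h (b₀ + b) : ℂ) * conj (z (b₀ + b))) _ (fun b => rfl)]
      rw [Finset.mul_sum]
      refine Finset.sum_congr rfl fun b _ => ?_
      rw [mu_add h, hzmul, map_mul, Units.val_mul]
      ring
    have hne : (mu h b₀ : ℂ) * conj (z b₀) ≠ 1 := fun e' => hb₀ (by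
      have e'' := congrArg (fun w => (mu h b₀ : ℂ) * w) e'
      rw [← mul_assoc, mu_mul_self h, one_mul, mul_one] at e''
      have := congrArg conj e''
      rwa [Complex.conj_conj, mu_conj h] at this)
    rw [hsum]
    have : ∑ b : F, (mu h b : ℂ) * conj (z b) = 0 := by
      by_contra hS
      exact hne (mul_eq_right₀ hS |>.mp e.symm)
    simp [this]

/-- The virtual character `λ + n θ` of `U`. -/
noncomputable def psi (n : ℤ) (u : ↥(US h)) : ℂ := (muU h u : ℂ) + (n : ℂ) * theta h u

theorem psi_virtual [Fintype ↥(US h)] (n : ℤ) : IsGeneralizedCharacter ↥(US h) (psi h n) :=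
  (isIrrCharacter_linear (muU h)).isGeneralized.add ((theta_virtual h).intCast_smul n)

theorem psi_uE (n : ℤ) (a b : F) [Decidable (a = 0)] : psi h n (uE h (a, b)) =
    (mu h a : ℂ) + if a = 0 then (n : ℂ) * (2 : ℂ) ^ (m + 1) * (mu h b : ℂ) else 0 := by
  rw [psi, muU_uE h, theta_uE h]
  split_ifs <;> ring

theorem psi_conj (n : ℤ) (u : ↥(US h)) : conj (psi h n u) = psi h n u := by
  classical
  obtain ⟨⟨a, b⟩, rfl⟩ := (uE h).surjective u
  rw [psi_uE h]
  split_ifs <;> simp [mu_conj h, map_mul, map_pow, map_ofNat]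

end Cfsg.Lib.SuzChar
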