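import Cfsg.Agent.Lib.Spec.SuzukiChar.Degrees

/-!
# Sums of character values in a Suzuki group

Sums over the families of characters at representatives of the classes, and the squares of the
values of the two small characters.
-/

set_option autoImplicit false
set_option linter.unusedSectionVars false

namespace Cfsg.Lib.SuzChar

open Cfsg Cfsg.Lib.Char Cfsg.Lib.Linear.Suz
open scoped ComplexConjugate

variable {F : Type*} [Field F] [Fintype F] [DecidableEq F] {m : ℕ} (h : Params F m)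
include h

section Torus

variable {T : Subgroup ↥(Cfsg.Sz F m)} (hT : Torus h T)
include hT

theorem exists_invert : ∃ w : ↥(Subgroup.normalizer (T : Set ↥(Cfsg.Sz F m))),
    ∀ a : ↥T, conjT h hT w a = a⁻¹ := by
  haveI : Fact (Nat.Prime 2) := ⟨Nat.prime_two⟩
  obtain ⟨w, hw⟩ := exists_prime_orderOf_dvd_card' (G :=
    ↥(Subgroup.normalizer (T : Set ↥(Cfsg.Sz F m)))) 2
      (by rw [hT.card_norm]; exact dvd_mul_of_dvd_left (by norm_num) _)
  have hwT : (w : ↥(Cfsg.Sz F m)) ∉ T := fun hmem => by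
    have ho : orderOf (w : ↥(Cfsg.Sz F m)) = 2 := by rw [Subgroup.orderOf_coe, hw]
    have hne : (w : ↥(Cfsg.Sz F m)) ≠ 1 := fun e => by rw [e, orderOf_one] at ho; omega
    have hd := fpf_dvd h ho (hT.fpf _ hmem hne)
    have : 2 ∣ (2 ^ (2 * m + 1)) ^ 2 := dvd_pow (dvd_pow_self 2 (by omega)) two_ne_zero
    omega
  refine ⟨w, fun a => ?_⟩
  have hww : (w : ↥(Cfsg.Sz F m)) * w = 1 := by
    have := pow_orderOf_eq_one w
    rw [hw, sq] at this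
    exact congrArg Subtype.val this
  have hwi : (w : ↥(Cfsg.Sz F m))⁻¹ = w := inv_eq_of_mul_eq_one_right hww
  have hinv : conjT h hT w (conjT h hT w a) = a := Subtype.ext (by
    rw [conjT_coe, conjT_coe, hwi]
    simp only [mul_assoc, hww, mul_one]
    rw [← mul_assoc, hww, one_mul])
  have hfix : conjT h hT w (a * conjT h hT w a) = conjT h hT 1 (a * conjT h hT w a) := by
    rw [map_mul, hinv, hT.comm h]
    exact Subtype.ext (by rw [conjT_coe]; simp)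
  by_contra hne
  have hne' : a * conjT h hT w a ≠ 1 := fun e => hne (eq_inv_of_mul_eq_one_right e)
  refine hwT ?_
  have := (conjT_eq_iff h hT hne' w 1).mp hfix
  simpa using this

theorem phi_torus_real [Fintype ↥(Cfsg.Sz F m)] (n : ℤ) (lam : ↥T →* ℂˣ) {a : ↥T} (ha : a ≠ 1) :
    conj (phi h hT n lam a) = phi h hT n lam a := by
  classical
  obtain ⟨w, hw⟩ := exists_invert h hT
  rw [phi_on_torus h hT n lam ha, map_neg, map_mul, map_inv₀, Complex.conj_natCast, map_sum]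
  congr 2
  refine Fintype.sum_equiv (Equiv.mulLeft w) _ _ fun x => ?_
  rw [conj_units_hom]
  congr 2
  refine Subtype.ext ?_
  have e : (w : ↥(Cfsg.Sz F m))⁻¹ * a * w = ((a : ↥(Cfsg.Sz F m)))⁻¹ := by
    rw [← conjT_coe h hT, hw a, Subgroup.coe_inv]
  rw [Subgroup.coe_inv, conjT_coe, conjT_coe, Equiv.coe_mulLeft, Subgroup.coe_mul]
  calc ((x : ↥(Cfsg.Sz F m))⁻¹ * a * x)⁻¹
      = (x : ↥(Cfsg.Sz F m))⁻¹ * (a : ↥(Cfsg.Sz F m))⁻¹ * x := by group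
    _ = ((w : ↥(Cfsg.Sz F m)) * x)⁻¹ * a * (w * x) := by rw [← e]; group

theorem family_real [Fintype ↥(Cfsg.Sz F m)] {n : ℤ} (hn : Matches h hT n) {a : ↥T} (ha : a ≠ 1)
    {χ : IrrCharacter ↥(Cfsg.Sz F m)} (hχ : χ ∈ family h hT hn) :
    ∃ r : ℝ, (χ : ↥(Cfsg.Sz F m) → ℂ) a = (r : ℂ) := by
  obtain ⟨lam, rfl⟩ := (mem_family h hT).mp hχ
  exact ⟨_, (Complex.conj_eq_iff_re.mp (phi_torus_real h hT n lam.1 ha)).symm⟩

theorem family_sum [Fintype ↥(Cfsg.Sz F m)] {n : ℤ} (hn : Matches h hT n) {a : ↥T} (ha : a ≠ 1) :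
    ∑ χ ∈ family h hT hn, (χ : ↥(Cfsg.Sz F m) → ℂ) a = 1 := by
  classical
  haveI := finite_dual h hT
  haveI := Fintype.ofFinite (↥T →* ℂˣ)
  refine mul_left_cancel₀ (show (4 : ℂ) ≠ 0 by norm_num) ?_
  rw [← sum_family h hT hn]
  simp only [phiIrr, phi_on_torus h hT n _ ha]
  rw [Finset.sum_neg_distrib, ← Finset.mul_sum,
    ← Finset.sum_subtype (Finset.univ.erase (1 : ↥T →* ℂˣ)) (fun x => by simp)
      (fun lam => ∑ x : ↥(Subgroup.normalizer (T : Set ↥(Cfsg.Sz F m))),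
        ((lam (conjT h hT x a) : ℂˣ) : ℂ)), Finset.sum_erase_eq_sub (Finset.mem_univ _),
    Finset.sum_comm]
  have e : ∀ x : ↥(Subgroup.normalizer (T : Set ↥(Cfsg.Sz F m))),
      ∑ lam : ↥T →* ℂˣ, ((lam (conjT h hT x a) : ℂˣ) : ℂ) = 0 := fun x => by
    rw [sum_dual h hT, if_neg fun e => ha (conjT_injective h hT x (e.trans (map_one _).symm))]
  simp only [e, MonoidHom.one_apply, Units.val_one, Finset.sum_const, Finset.card_univ, smul_zero,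
    nsmul_eq_mul, mul_one, ← Nat.card_eq_fintype_card, hT.card_norm, zero_sub]
  have : (Nat.card ↥T : ℂ) ≠ 0 := Nat.cast_ne_zero.mpr Nat.card_pos.ne'
  push_cast
  field_simp

theorem phi_uS [Fintype ↥(Cfsg.Sz F m)] (n : ℤ) (lam : ↥T →* ℂˣ) {a b : F} (hab : uS h a b ≠ 1) :
    phi h hT n lam (uS h a b) =
      if a = 0 then ((Fintype.card F : ℂ) - 1) - (n : ℂ) * (2 : ℂ) ^ (m + 1) else -1 := by
  rw [phi, Pi.sub_apply, bigPsi_uS h n hab]
  have : torusInd h hT lam (uS h a b) = 0 := by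
    refine indFun_eq_zero _ _ fun x hx => ?_
    have hne : x⁻¹ * uS h a b * x ≠ 1 := fun e => hab (by
      rwa [mul_eq_one_iff_eq_inv, inv_mul_eq_iff_eq_mul, mul_inv_cancel] at e)
    have := fpf_conj h (hT.fpf _ hx hne) x
    rw [show x * (x⁻¹ * uS h a b * x) * x⁻¹ = uS h a b by group] at this
    exact not_fpf_of_conjSet h (Or.inl ⟨hab, 1, by
      simp only [one_mul, inv_one, mul_one]; exact ⟨a, b, rfl⟩⟩) this
  rw [this, sub_zero]

end Torus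

theorem dS_ne_one {k : Fˣ} (hk : k ≠ 1) : dS h k ≠ 1 :=
  fun e => hk (dS_injective h (e.trans (map_one _).symm))

variable [Fintype ↥(Cfsg.Sz F m)]

theorem oneIrr_apply (g : ↥(Cfsg.Sz F m)) : (oneIrr h : ↥(Cfsg.Sz F m) → ℂ) g = 1 := rfl

theorem stIrr_one : (stIrr h : ↥(Cfsg.Sz F m) → ℂ) 1 = (Fintype.card F : ℂ) ^ 2 :=
  steinberg_one h

theorem stIrr_fpf {g : ↥(Cfsg.Sz F m)} (hg : Fpf h g) :
    (stIrr h : ↥(Cfsg.Sz F m) → ℂ) g = -1 := by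
  show steinberg h g = -1
  rw [steinberg, Pi.sub_apply, pSer_fpf h _ hg, zero_sub]

theorem stIrr_uS {a b : F} (hab : uS h a b ≠ 1) :
    (stIrr h : ↥(Cfsg.Sz F m) → ℂ) (uS h a b) = 0 := by
  show steinberg h _ = 0
  rw [steinberg, Pi.sub_apply, pSer_uS h _ hab, sub_self]

theorem stIrr_dS {k : Fˣ} (hk : k ≠ 1) : (stIrr h : ↥(Cfsg.Sz F m) → ℂ) (dS h k) = 1 := by
  show steinberg h _ = 1
  rw [steinberg, Pi.sub_apply, pSer_dS h _ hk]
  simp

theorem mem_pFam {χ : IrrCharacter ↥(Cfsg.Sz F m)} : χ ∈ pFam h ↔ ∃ lam, pIrr h lam = χ := by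
  simp [pFam]

theorem pFam_one {χ : IrrCharacter ↥(Cfsg.Sz F m)} (hχ : χ ∈ pFam h) :
    (χ : ↥(Cfsg.Sz F m) → ℂ) 1 = (Fintype.card F : ℂ) ^ 2 + 1 := by
  obtain ⟨lam, rfl⟩ := (mem_pFam h).mp hχ
  exact pSer_one h lam.1

theorem pFam_fpf {χ : IrrCharacter ↥(Cfsg.Sz F m)} (hχ : χ ∈ pFam h) {g : ↥(Cfsg.Sz F m)}
    (hg : Fpf h g) : (χ : ↥(Cfsg.Sz F m) → ℂ) g = 0 := by
  obtain ⟨lam, rfl⟩ := (mem_pFam h).mp hχ
  exact pSer_fpf h lam.1 hg

theorem pFam_uS {χ : IrrCharacter ↥(Cfsg.Sz F m)} (hχ : χ ∈ pFam h) {a b : F} (hab : uS h a b ≠ 1) :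
    (χ : ↥(Cfsg.Sz F m) → ℂ) (uS h a b) = 1 := by
  obtain ⟨lam, rfl⟩ := (mem_pFam h).mp hχ
  exact pSer_uS h lam.1 hab

theorem pFam_dS_real {χ : IrrCharacter ↥(Cfsg.Sz F m)} (hχ : χ ∈ pFam h) {k : Fˣ} (hk : k ≠ 1) :
    ∃ r : ℝ, (χ : ↥(Cfsg.Sz F m) → ℂ) (dS h k) = (r : ℂ) ∧ |r| ≤ 2 := by
  obtain ⟨lam, rfl⟩ := (mem_pFam h).mp hχ
  have e : pSer h lam.1 (dS h k) = ((2 * ((lam.1 k : ℂˣ) : ℂ).re : ℝ) : ℂ) := by
    rw [pSer_dS h _ hk, ← conj_units_hom, Complex.add_conj]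
  refine ⟨_, e, ?_⟩
  have hn : ‖((lam.1 k : ℂˣ) : ℂ)‖ = 1 :=
    Complex.norm_eq_one_of_pow_eq_one (n := Fintype.card F - 1)
      (by rw [← Units.val_pow_eq_pow_val, ← map_pow, units_pow h, map_one, Units.val_one])
      (by have := card_F_ge h; omega)
  have := Complex.abs_re_le_norm ((lam.1 k : ℂˣ) : ℂ)
  rw [abs_mul, abs_two]
  linarith

theorem pFam_sum_dS {k : Fˣ} (hk : k ≠ 1) :
    ∑ χ ∈ pFam h, (χ : ↥(Cfsg.Sz F m) → ℂ) (dS h k) = -1 := by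
  classical
  haveI := finite_units_dual h
  haveI := Fintype.ofFinite (Fˣ →* ℂˣ)
  refine mul_left_cancel₀ (show (2 : ℂ) ≠ 0 by norm_num) ?_
  rw [show pFam h = Finset.univ.filter (fun χ => ∃ lam, pIrr h lam = χ) by ext; simp [pFam],
    ← sum_pIrr h]
  simp only [pIrr, pSer_dS h _ hk]
  rw [← Finset.sum_subtype (Finset.univ.erase (1 : Fˣ →* ℂˣ)) (fun x => by simp)
    (fun lam => ((lam k : ℂˣ) : ℂ) + ((lam k⁻¹ : ℂˣ) : ℂ)),
    Finset.sum_erase_eq_sub (Finset.mem_univ _), Finset.sum_add_distrib, sum_units_dual h,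
    sum_units_dual h, if_neg hk, if_neg (fun e => hk (inv_eq_one.mp e))]
  simp
  norm_num

theorem pFam_column_dS {k : Fˣ} (hk : k ≠ 1) :
    ∑ χ ∈ pFam h, (χ : ↥(Cfsg.Sz F m) → ℂ) (dS h k) * conj ((χ : ↥(Cfsg.Sz F m) → ℂ) (dS h k)) =
      (Fintype.card F : ℂ) - 3 := by
  classical
  haveI := finite_units_dual h
  haveI := Fintype.ofFinite (Fˣ →* ℂˣ)
  refine mul_left_cancel₀ (show (2 : ℂ) ≠ 0 by norm_num) ?_
  rw [show pFam h = Finset.univ.filter (fun χ => ∃ lam, pIrr h lam = χ) by ext; simp [pFam],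
    ← sum_pIrr h]
  simp only [pIrr]
  exact sum_pSer_dS h hk

variable (D : Table h)

/-- The same table with the two tori exchanged. -/
def Table.symm : Table h where
  T := D.T'
  T' := D.T
  hT := D.hT'
  hT' := D.hT
  n := D.n'
  n' := D.n
  hn := D.hn'
  hn' := D.hn
  eT := D.eT'
  eT' := D.eT
  coprime := D.coprime.symm
  coprime_sub := D.coprime_sub'
  coprime_sub' := D.coprime_sub
  mul_eq := by rw [mul_comm]; exact D.mul_eq
  add_eq := by rw [add_comm]; exact D.add_eq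
  five_le := D.five_le'
  five_le' := D.five_le
  cover := fun z hz => (D.cover z hz).symm
  u := D.u
  v := D.v
  deg_u := D.deg_u
  deg_v := D.deg_v
  vanish_u := D.vanish_u
  vanish_v := D.vanish_v
  notMem := D.notMem'
  notMem' := D.notMem
  split := fun g => by rw [D.split g, add_comm (∑ χ ∈ family h D.hT D.hn, g χ)]

theorem fam_one {χ : IrrCharacter ↥(Cfsg.Sz F m)} (hχ : χ ∈ family h D.hT D.hn) :
    (χ : ↥(Cfsg.Sz F m) → ℂ) 1 = ((Fintype.card F : ℂ) - 1) * (Nat.card ↥D.T' : ℂ) := by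
  obtain ⟨lam, rfl⟩ := (mem_family h D.hT).mp hχ
  show phi h D.hT _ lam.1 1 = _
  rw [phi_one h D.hT D.hn, D.eT]

theorem fam_dS {χ : IrrCharacter ↥(Cfsg.Sz F m)} (hχ : χ ∈ family h D.hT D.hn) {k : Fˣ}
    (hk : k ≠ 1) : (χ : ↥(Cfsg.Sz F m) → ℂ) (dS h k) = 0 := by
  obtain ⟨lam, rfl⟩ := (mem_family h D.hT).mp hχ
  exact phi_dS h D.hT _ lam.1 hk

theorem fam_other {χ : IrrCharacter ↥(Cfsg.Sz F m)} (hχ : χ ∈ family h D.hT' D.hn') {a : ↥D.T}
    (ha : a ≠ 1) : (χ : ↥(Cfsg.Sz F m) → ℂ) a = 0 := by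
  obtain ⟨lam, rfl⟩ := (mem_family h D.hT').mp hχ
  refine phi_coprime h D.hT' _ lam.1 (D.hT.fpf a a.2 fun e => ha (Subtype.ext e)) ?_
  refine Nat.Coprime.coprime_dvd_left ?_ D.coprime
  rw [Subgroup.orderOf_coe]
  exact orderOf_dvd_natCard a

/-- The value of the first family at an involution. -/
noncomputable def invVal : ℂ := (Fintype.card F : ℂ) - (Nat.card ↥D.T' : ℂ)

theorem fam_uS {χ : IrrCharacter ↥(Cfsg.Sz F m)} (hχ : χ ∈ family h D.hT D.hn) {a b : F}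
    (hab : uS h a b ≠ 1) :
    (χ : ↥(Cfsg.Sz F m) → ℂ) (uS h a b) = if a = 0 then invVal h D else -1 := by
  obtain ⟨lam, rfl⟩ := (mem_family h D.hT).mp hχ
  show phi h D.hT _ lam.1 _ = _
  rw [phi_uS h D.hT _ _ hab, invVal, ← D.eT]
  exact if_congr Iff.rfl (by ring) rfl

theorem split_values (g : ↥(Cfsg.Sz F m)) :
    ∑ χ : IrrCharacter ↥(Cfsg.Sz F m), (χ : ↥(Cfsg.Sz F m) → ℂ) 1 * (χ : ↥(Cfsg.Sz F m) → ℂ) g =
      1 + (Fintype.card F : ℂ) ^ 2 * (stIrr h : ↥(Cfsg.Sz F m) → ℂ) g +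
      ((Fintype.card F : ℂ) ^ 2 + 1) * ∑ χ ∈ pFam h, (χ : ↥(Cfsg.Sz F m) → ℂ) g +
      (((Fintype.card F : ℂ) - 1) * (Nat.card ↥D.T' : ℂ) *
          ∑ χ ∈ family h D.hT D.hn, (χ : ↥(Cfsg.Sz F m) → ℂ) g +
        ((Fintype.card F : ℂ) - 1) * (Nat.card ↥D.T : ℂ) *
          ∑ χ ∈ family h D.hT' D.hn', (χ : ↥(Cfsg.Sz F m) → ℂ) g) +
      (2 : ℂ) ^ m * ((Fintype.card F : ℂ) - 1) *
        ((D.u : ↥(Cfsg.Sz F m) → ℂ) g + (D.v : ↥(Cfsg.Sz F m) → ℂ) g) := by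
  have hc : ((Fintype.card F - 1 : ℕ) : ℂ) = (Fintype.card F : ℂ) - 1 := by
    rw [Nat.cast_sub Fintype.card_pos, Nat.cast_one]
  rw [D.split, oneIrr_apply, oneIrr_apply, stIrr_one, D.deg_u, D.deg_v,
    Finset.sum_congr rfl (fun χ hχ => by rw [pFam_one h hχ]),
    Finset.sum_congr (s₁ := family h D.hT D.hn) rfl (fun χ hχ => by rw [fam_one h D hχ]),
    Finset.sum_congr (s₁ := family h D.hT' D.hn') rfl
      (fun χ hχ => by rw [fam_one h (Table.symm h D) hχ]),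
    ← Finset.mul_sum, ← Finset.mul_sum, ← Finset.mul_sum, Nat.cast_mul, hc]
  simp only [Table.symm]
  push_cast
  ring

theorem small_sum {g : ↥(Cfsg.Sz F m)} (hg : g ≠ 1) :
    (2 : ℂ) ^ m * ((Fintype.card F : ℂ) - 1) *
        ((D.u : ↥(Cfsg.Sz F m) → ℂ) g + (D.v : ↥(Cfsg.Sz F m) → ℂ) g) =
      -(1 + (Fintype.card F : ℂ) ^ 2 * (stIrr h : ↥(Cfsg.Sz F m) → ℂ) g +
      ((Fintype.card F : ℂ) ^ 2 + 1) * ∑ χ ∈ pFam h, (χ : ↥(Cfsg.Sz F m) → ℂ) g +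
      (((Fintype.card F : ℂ) - 1) * (Nat.card ↥D.T' : ℂ) *
          ∑ χ ∈ family h D.hT D.hn, (χ : ↥(Cfsg.Sz F m) → ℂ) g +
        ((Fintype.card F : ℂ) - 1) * (Nat.card ↥D.T : ℂ) *
          ∑ χ ∈ family h D.hT' D.hn', (χ : ↥(Cfsg.Sz F m) → ℂ) g)) := by
  classical
  have e := split_values h D g
  rw [sum_degree_mul, if_neg hg] at e
  linear_combination -e

theorem card_fam : 4 * ((family h D.hT D.hn).card : ℂ) = (Nat.card ↥D.T : ℂ) - 1 :=
  card_family h D.hT D.hn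

theorem q_sub_ne : (2 : ℂ) ^ m * ((Fintype.card F : ℂ) - 1) ≠ 0 := by
  have h8 := card_F_ge h
  exact mul_ne_zero (pow_ne_zero _ two_ne_zero)
    (sub_ne_zero.mpr (by exact_mod_cast (by omega : Fintype.card F ≠ 1)))

theorem q_pow : (Fintype.card F : ℂ) = 2 * ((2 : ℂ) ^ m) ^ 2 := by
  rw [q_eq h]; ring

theorem add_eq_cast : (Nat.card ↥D.T : ℂ) + Nat.card ↥D.T' = 2 * (Fintype.card F : ℂ) + 2 := by
  exact_mod_cast congrArg (Nat.cast (R := ℂ)) D.add_eq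

theorem mul_eq_cast : (Nat.card ↥D.T : ℂ) * Nat.card ↥D.T' = (Fintype.card F : ℂ) ^ 2 + 1 := by
  exact_mod_cast congrArg (Nat.cast (R := ℂ)) D.mul_eq

theorem small_torus {a : ↥D.T} (ha : a ≠ 1) :
    (2 : ℂ) ^ m * ((D.u : ↥(Cfsg.Sz F m) → ℂ) a + (D.v : ↥(Cfsg.Sz F m) → ℂ) a) =
      (Fintype.card F : ℂ) + 1 - (Nat.card ↥D.T' : ℂ) := by
  have hf := D.hT.fpf a a.2 fun e => ha (Subtype.ext e)
  have e := small_sum h D (g := (a : ↥(Cfsg.Sz F m))) (fpf_ne_one h hf)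
  rw [stIrr_fpf h hf, Finset.sum_eq_zero (fun χ hχ => pFam_fpf h hχ hf), family_sum h D.hT D.hn ha,
    Finset.sum_eq_zero (s := family h D.hT' D.hn') (fun χ hχ => fam_other h D hχ ha)] at e
  have h8 := card_F_ge h
  refine mul_left_cancel₀ (sub_ne_zero.mpr
    (by exact_mod_cast (by omega : Fintype.card F ≠ 1)) : (Fintype.card F : ℂ) - 1 ≠ 0) ?_
  linear_combination e

theorem small_dS {k : Fˣ} (hk : k ≠ 1) :
    (D.u : ↥(Cfsg.Sz F m) → ℂ) (dS h k) + (D.v : ↥(Cfsg.Sz F m) → ℂ) (dS h k) = 0 := by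
  rw [D.vanish_u k hk, D.vanish_v k hk, add_zero]

theorem sum_fam_uS {a b : F} (hab : uS h a b ≠ 1) :
    ∑ χ ∈ family h D.hT D.hn, (χ : ↥(Cfsg.Sz F m) → ℂ) (uS h a b) =
      ((family h D.hT D.hn).card : ℂ) * if a = 0 then invVal h D else -1 := by
  rw [Finset.sum_congr rfl (fun χ hχ => fam_uS h D hχ hab), Finset.sum_const, nsmul_eq_mul]

theorem small_uS {a b : F} (hab : uS h a b ≠ 1) :
    (D.u : ↥(Cfsg.Sz F m) → ℂ) (uS h a b) + (D.v : ↥(Cfsg.Sz F m) → ℂ) (uS h a b) =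
      if a = 0 then -2 * (2 : ℂ) ^ m else 0 := by
  have e := small_sum h D hab
  rw [stIrr_uS h hab, Finset.sum_congr rfl (fun χ hχ => pFam_uS h hχ hab), Finset.sum_const,
    nsmul_eq_mul, mul_one, sum_fam_uS h D hab] at e
  have e' := sum_fam_uS h (Table.symm h D) hab
  simp only [Table.symm] at e'
  rw [e'] at e
  refine mul_left_cancel₀ (q_sub_ne h) ?_
  rw [e]
  have c1 := card_pFam h
  have c2 := card_fam h D
  have c3 := card_fam h (Table.symm h D)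
  simp only [Table.symm] at c3
  have a1 := add_eq_cast h D
  have a2 := mul_eq_cast h D
  have hq := q_pow h
  obtain ⟨p, hp⟩ : ∃ p : ℂ, p = (2 : ℂ) ^ m := ⟨_, rfl⟩
  rw [← hp] at hq ⊢
  obtain ⟨q, hq'⟩ : ∃ q : ℂ, q = (Fintype.card F : ℂ) := ⟨_, rfl⟩
  obtain ⟨t, ht⟩ : ∃ t : ℂ, t = (Nat.card ↥D.T : ℂ) := ⟨_, rfl⟩
  obtain ⟨t', ht'⟩ : ∃ t : ℂ, t = (Nat.card ↥D.T' : ℂ) := ⟨_, rfl⟩
  obtain ⟨k, hk⟩ : ∃ k : ℂ, k = ((family h D.hT D.hn).card : ℂ) := ⟨_, rfl⟩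
  obtain ⟨k', hk'⟩ : ∃ k : ℂ, k = ((family h D.hT' D.hn').card : ℂ) := ⟨_, rfl⟩
  obtain ⟨P, hP⟩ : ∃ k : ℂ, k = ((pFam h).card : ℂ) := ⟨_, rfl⟩
  simp only [invVal, Table.symm, ← hq', ← ht, ← ht', ← hk, ← hk', ← hP] at c1 c2 c3 a1 a2 hq ⊢
  split_ifs
  · linear_combination -((q ^ 2 + 1) / 2) * c1 - ((q - 1) * t' * (q - t') / 4) * c2
      - ((q - 1) * t * (q - t) / 4) * c3 - ((q - 1) / 4) * (2 * q - (t + t') - 2) * a2
      - ((q - 1) / 4) * (t + t' + q - q ^ 2 + 1) * a1 - (q - 1) * hq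
  · linear_combination -((q ^ 2 + 1) / 2) * c1 + ((q - 1) * t' / 4) * c2
      + ((q - 1) * t / 4) * c3 + ((q - 1) / 2) * a2 - ((q - 1) / 4) * a1

theorem small_sq {a : ↥D.T} (ha : a ≠ 1) :
    (D.u : ↥(Cfsg.Sz F m) → ℂ) a ^ 2 = 1 ∧ (D.v : ↥(Cfsg.Sz F m) → ℂ) a ^ 2 = 1 := by
  classical
  obtain ⟨c, K, hc, hc1⟩ := const_on_torus h D.hT D.hn D.u fun lam => (D.notMem lam).1
  obtain ⟨c', K', hc', hc1'⟩ := const_on_torus h D.hT D.hn D.v fun lam => (D.notMem lam).2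
  have hnd : ∀ c K : ℤ, ((2 ^ m * (Fintype.card F - 1) : ℕ) : ℂ) =
      (c : ℂ) + (Nat.card ↥D.T : ℂ) * (K : ℂ) → c ≠ 0 := by
    intro c K e h0
    rw [h0, Int.cast_zero, zero_add] at e
    have e' : ((2 ^ m * (Fintype.card F - 1) : ℕ) : ℤ) = (Nat.card ↥D.T : ℤ) * K := by
      exact_mod_cast e
    have hd : Nat.card ↥D.T ∣ 2 ^ m :=
      D.coprime_sub.dvd_of_dvd_mul_right (Int.natCast_dvd_natCast.mp ⟨K, e'⟩)
    obtain ⟨j, -, hj⟩ := (Nat.dvd_prime_pow Nat.prime_two).mp hd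
    have hodd : ¬ 2 ∣ Fintype.card F ^ 2 + 1 := by
      have : 2 ∣ Fintype.card F ^ 2 := dvd_pow (h.card ▸ dvd_pow_self 2 (by omega)) two_ne_zero
      omega
    rcases Nat.eq_zero_or_pos j with rfl | hpos
    · have := D.five_le; rw [hj] at this; norm_num at this
    · exact hodd (D.mul_eq ▸ dvd_mul_of_dvd_left (hj ▸ dvd_pow_self 2 hpos.ne') _)
  have h1 := hnd c K (D.deg_u.symm.trans hc1)
  have h2 := hnd c' K' (D.deg_v.symm.trans hc1')
  have hf := D.hT.fpf a a.2 fun e => ha (Subtype.ext e)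
  have hcol := column_orthogonality (G := ↥(Cfsg.Sz F m)) (a : ↥(Cfsg.Sz F m)) a
  rw [if_pos (IsConj.refl _), D.hT.cent a a.2 (fun e => ha (Subtype.ext e)), D.split,
    oneIrr_apply, stIrr_fpf h hf, Finset.sum_eq_zero (fun χ hχ => by rw [pFam_fpf h hχ hf, zero_mul]),
    family_column h D.hT D.hn ha,
    Finset.sum_eq_zero (s := family h D.hT' D.hn') (fun χ hχ => by rw [fam_other h D hχ ha, zero_mul]),
    hc a ha, hc' a ha, map_intCast, map_intCast] at hcol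
  simp only [map_one, map_neg] at hcol
  have e : ((c * c + c' * c' : ℤ) : ℂ) = ((2 : ℤ) : ℂ) := by push_cast; linear_combination hcol
  have e' : c * c + c' * c' = 2 := by exact_mod_cast e
  have p1 := mul_self_pos.mpr h1
  have p2 := mul_self_pos.mpr h2
  have q1 : c * c = 1 := by omega
  have q2 : c' * c' = 1 := by omega
  rw [hc a ha, hc' a ha, sq, sq]
  exact ⟨by exact_mod_cast q1, by exact_mod_cast q2⟩

theorem not_conj_inv {a b : F} (ha : a ≠ 0) : ¬ IsConj (uS h a b) (uS h a b)⁻¹ := by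
  intro hc
  obtain ⟨g, hg⟩ := isConj_iff.mp hc
  have hne : uS h a b ≠ 1 := fun e => ha (uS_inj h (e.trans (uS_zero h).symm)).1
  have hgB := conj_mem_stab h (u := uS h a b) (v := (uS h a b)⁻¹) ⟨a, b, rfl⟩
    (inv_mem (show uS h a b ∈ US h from ⟨a, b, rfl⟩)) hne hg
  obtain ⟨x, y, k, rfl⟩ := (mem_stab_inf_iff h).mp hgB
  rw [show uS h x y * dS h k * uS h a b * (uS h x y * dS h k)⁻¹ =
      uS h x y * (dS h k * uS h a b * (dS h k)⁻¹) * (uS h x y)⁻¹ by group, dS_conj_uS h,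
    mul_inv_eq_iff_eq_mul, uS_inv h, uS_mul h, uS_mul h] at hg
  obtain ⟨e1, e2⟩ := uS_inj h hg
  have hk : (k : F) = 1 := mul_right_cancel₀ ha (by linear_combination e1)
  rw [hk, th_one h, one_mul, one_mul, one_mul] at e2
  have e3 : th m a * a = th m x * a + th m a * x := by
    linear_combination -e2 - (th m a * x) * two_eq h
  obtain ⟨y', rfl⟩ : ∃ y', x = y' * a := ⟨x / a, by field_simp⟩
  have hne' : th m a * a ≠ 0 := mul_ne_zero (fun e => ha ((th_eq_zero h).mp e)) ha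
  rw [th_mul h] at e3
  have e4 : th m y' + y' = 1 :=
    mul_right_cancel₀ hne' (by linear_combination -e3)
  have e5 := congrArg (th m) e4
  rw [th_add h, th_th h, th_one h] at e5
  have e6 : y' * (y' - 1) = 0 := by linear_combination e5 - e4
  rcases mul_eq_zero.mp e6 with h0 | h0
  · rw [h0, th_zero h, add_zero] at e4; exact zero_ne_one e4
  · rw [sub_eq_zero.mp h0, th_one h, add_self h] at e4; exact zero_ne_one e4

theorem small_four {a b : F} (ha : a ≠ 0) :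
    (D.u : ↥(Cfsg.Sz F m) → ℂ) (uS h a b) ^ 2 = -(Fintype.card F : ℂ) / 2 ∧
      (D.v : ↥(Cfsg.Sz F m) → ℂ) (uS h a b) ^ 2 = -(Fintype.card F : ℂ) / 2 := by
  classical
  have hne : uS h a b ≠ 1 := fun e => ha (uS_inj h (e.trans (uS_zero h).symm)).1
  have hs := small_uS h D hne
  rw [if_neg ha] at hs
  have hcol := column_orthogonality (G := ↥(Cfsg.Sz F m)) (uS h a b) (uS h a b)⁻¹
  rw [if_neg (not_conj_inv h ha)] at hcol
  simp only [fun χ : IrrCharacter ↥(Cfsg.Sz F m) => χ.2.isCharacter.apply_inv (uS h a b),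
    Complex.conj_conj] at hcol
  rw [D.split, oneIrr_apply, stIrr_uS h hne,
    Finset.sum_congr rfl (fun χ hχ => by rw [pFam_uS h hχ hne]),
    Finset.sum_congr (s₁ := family h D.hT D.hn) rfl (fun χ hχ => by rw [fam_uS h D hχ hne, if_neg ha]),
    Finset.sum_congr (s₁ := family h D.hT' D.hn') rfl
      (fun χ hχ => by rw [fam_uS h (Table.symm h D) hχ hne, if_neg ha])] at hcol
  simp only [Finset.sum_const, nsmul_eq_mul] at hcol
  have c1 := card_pFam h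
  have c2 := card_fam h D
  have c3 := card_fam h (Table.symm h D)
  simp only [Table.symm] at c3
  have a1 := add_eq_cast h D
  have e2 : (D.u : ↥(Cfsg.Sz F m) → ℂ) (uS h a b) ^ 2 +
      (D.v : ↥(Cfsg.Sz F m) → ℂ) (uS h a b) ^ 2 = -(Fintype.card F : ℂ) := by
    linear_combination hcol - c1 / 2 - c2 / 4 - c3 / 4 - a1 / 4
  constructor
  · linear_combination e2 / 2 +
      (((D.u : ↥(Cfsg.Sz F m) → ℂ) (uS h a b) - (D.v : ↥(Cfsg.Sz F m) → ℂ) (uS h a b)) / 2) * hs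
  · linear_combination e2 / 2 -
      (((D.u : ↥(Cfsg.Sz F m) → ℂ) (uS h a b) - (D.v : ↥(Cfsg.Sz F m) → ℂ) (uS h a b)) / 2) * hs

end Cfsg.Lib.SuzChar
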